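import Cfsg.Agent.H16.Slp

/-! Generated by tools/h16 (computation kit). -/

set_option maxRecDepth 100000
set_option maxHeartbeats 0

namespace H16.J2

noncomputable def Rl : List (List ℕ) := [[nat_lit 0, nat_lit 1],
  [nat_lit 1, nat_lit 0],
  [nat_lit 2, nat_lit 2],
  [nat_lit 3, nat_lit 3],
  [nat_lit 4, nat_lit 4],
  [nat_lit 0, nat_lit 0, nat_lit 0, nat_lit 0],
  [nat_lit 0, nat_lit 0, nat_lit 2, nat_lit 0, nat_lit 0, nat_lit 2, nat_lit 1, nat_lit 1, nat_lit 2],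
  [nat_lit 0, nat_lit 2, nat_lit 0, nat_lit 2, nat_lit 0, nat_lit 2, nat_lit 0, nat_lit 2, nat_lit 0, nat_lit 2, nat_lit 0, nat_lit 2, nat_lit 0, nat_lit 2],
  [nat_lit 0, nat_lit 3, nat_lit 1, nat_lit 3],
  [nat_lit 2, nat_lit 3, nat_lit 2, nat_lit 3, nat_lit 2, nat_lit 3],
  [nat_lit 0, nat_lit 2, nat_lit 0, nat_lit 2, nat_lit 1, nat_lit 2, nat_lit 1, nat_lit 2, nat_lit 0, nat_lit 3, nat_lit 2, nat_lit 1, nat_lit 2, nat_lit 1, nat_lit 2, nat_lit 0, nat_lit 2, nat_lit 0, nat_lit 2, nat_lit 3, nat_lit 2],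
  [nat_lit 0, nat_lit 4, nat_lit 1, nat_lit 4],
  [nat_lit 2, nat_lit 4, nat_lit 2, nat_lit 4, nat_lit 2, nat_lit 4, nat_lit 2, nat_lit 4, nat_lit 2, nat_lit 4],
  [nat_lit 0, nat_lit 2, nat_lit 3, nat_lit 2, nat_lit 1, nat_lit 4, nat_lit 2, nat_lit 0, nat_lit 4, nat_lit 3, nat_lit 2, nat_lit 4],
  [nat_lit 0, nat_lit 0, nat_lit 2, nat_lit 4, nat_lit 2, nat_lit 4, nat_lit 3, nat_lit 2, nat_lit 4, nat_lit 2, nat_lit 4, nat_lit 2, nat_lit 3, nat_lit 4, nat_lit 2, nat_lit 4, nat_lit 2, nat_lit 3]]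
noncomputable def Pd : List ℕ := [nat_lit 0xc752b60977a85db10a0dfaf39ee2a4e69c76f32ae1b6cdfc8b96622e8b698ab94b1b2654a68a19f34ea0928a31f3d0cc407c54a3b74f09a322d1c32203dab05e3920c5a594271494c9c3620d170c4858d08144820e0c080,
  nat_lit 0xc752660b17ae47970a35baf866e2a34dcdd6f59b4ebefd9c8a0c61c55d6acac92aeaa6509e9219ef4ea2948209c3710bbe80edd1528f091948c9c3460bda901e348ad18595294a2919f3c68418124c28e062c3070410080,
  nat_lit 0xc7770cba32b15c896aad87d5acbb750efb89ef2335c17a4b28f357dba4b14c0515d3cea94d1d0407a6343920db08a5d242567e0bf7a48d2d728883754d87336294a0f5c2ca9926984a130746862c108830e3028a1004100,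
  nat_lit 0xbd8a6e0b78e3d0bf6accb9156b548b121dc9ef70b6b12a4d7bb1a9d2a30a0a87eaa72656957386f30e9c667d8a034e519576f89c024f1d175a410b06439ab41abc611485960a529cc221078d990e5018f16101061214080,
  nat_lit 0xbd8aae0958ecc6930aebfaef70d4a74a8c16eda64d677edc86371743896a829b09eb3c4ab1cb89f39a9e966e39a45156ba284e0127c99d9132bd08f1cd0e8d64c11982e5852b54a1208407ce0c0854390120818b0a18001]
noncomputable def P (k u : ℕ) : ℕ := Nat.land (Nat.shiftRight (nth (nat_lit 0) Pd k) (Nat.mul u (nat_lit 7))) (nat_lit 127)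
noncomputable def T0d : List ℕ := [nat_lit 0x618e95411589e0c52d95e594085d7762642c705b5f395c4cec6f72628d4b1b98b4c9474edc84c0957261836f1b37afcf48c570fd94f131ae471725a40c6a2b692a6ac16d8d26c2aaea9c9469a1c93f24d28754a0c925822c91b09fba7b243c463040b4fb115c45313bc4eb23cbe4e823c647034c8e2d32c44310fc8d7130c4bef8e909318cc8b6996c4a2e27c62b2259a6711cb86f188c86b217c41b212ba2f20dc412c05c427182c81f203c407200,
  nat_lit 0x5f8f1d4c7309606f618de1f730c7812f1c23d19d5b375c3e107368e289463d3c6e55ddc6dc456c6d87cec37dabfc6ccec823431b1450d345c6ba5dac966fac7926cabc9571a6c2a30a7c94b1a1513c53dc676fa2c92aca03f0709cc26f244c65e73ea70303bb8eb095b650cbcc64a499a2917b2a4e1534c0c2e2f26d7090b63f18d98470adc632916c2ab0a9bc9718ac88f09fc27af1ac623218bc27213c21720ec60f08bae1b087c60b204c207200,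
  nat_lit 0xbb8d15d01871cb83471ca438965cc710a5a0554fd8c6f8cd603671bbc6ea8c3857f1b8253c73c051b1b5c98325e47271b2411c0cd56bf25ba54b1acc6a6c40c6a3257c69c7cec953253c68f250c68319ec932f34c673248c66e8b05517197a693242a8ad91fc90723fc8f7192ba6a92dc8e69a2c64323766ab236c63b233c8c6f25b05200fc8bb18ba656b99304f226c627221826321d2a37186c85b184c847183c01f20cac1720ac823181c80b200,
  nat_lit 0xc77a7e22334f607f6f263c71d750817e8da2965c4b5f203d50d5a85451166c49b0d6dc4b3c63d21849b67362f4abd25857c974ac6534e65299469422f071a8b2fe7aa1b38e26a4af1a59eba9b84cdc94c2a7719cbecd91f2cc53a0c66a739888f195a2ee83ec64f240c648dbcc8ea3978ab7190a88543062cb18e28d7234c63722fc6321118c92d16c8b318ac8a72278663222c62321ec86f219b81f214c60f20fb62ed04c60ac86c827205aa07200,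
  nat_lit 0x3d7a7e20d54a60c728ee31b671c67d24b421d771bf355f1bd0b86854974e2d28744a4128df1b625308cdc6cf25f7f6cfc8c6c725cc6b92434b10ada2742b29c9631a7c958ebcc6965ac88e6a38273f24e2cd559ec92f19bc91f19a5c8b245c0b663ac653193ab03192c8f8f26c8ef19196656afaa8718fc6396342e7718dc8cb230948ef98c25ea16c62b22bc8ab228c893188c88321fc87310cc613215be1f210c027182c20f20bc417206c603201]
noncomputable def T0 (k u : ℕ) : ℕ := Nat.land (Nat.shiftRight (nth (nat_lit 0) T0d k) (Nat.mul u (nat_lit 14))) (nat_lit 16383)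
noncomputable def I0d : List ℕ := [nat_lit 0x19c8502c6301c42180411088010001508a501862005a01086330c2e084e208c2618503000601840210c2000c20180420940410580208210044140c6208409,
  nat_lit 0x20000000000000000c000000000800000000002000020000203000008000004040000000002180020000000000000000002000001104010000000405,
  nat_lit 0x118e00000702185024000014040080085c0101412800200406084010002200403002018802108000088012040108c4008120184016844008020205e10802b,
  nat_lit 0x4230080438420014030142008003094231052000c60300e4080c1180803102000000004020004108141000020080000c401082200842088020040010868,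
  nat_lit 0x208e300000014402000350846200a000443004001000608022000420044008020104420000008c20100600086008402124010842008428004011000128401]
noncomputable def I0 (k u : ℕ) : ℕ := Nat.land (Nat.shiftRight (nth (nat_lit 0) I0d k) (Nat.mul u (nat_lit 5))) (nat_lit 31)
noncomputable def D0d : ℕ := nat_lit 0xece92f979bb5d2cd62ab52a8d3f9c4d665299247a3b1a89c4a1d0b81c01fefc7cbd5d4e7733799ecb6531d8abe5eaf162a551261228f4722d1286429d4e66c3418cc45e2e970b4592b14ca44f251249045221047e3d1e0e46c35198c85e2c158a450200c0582411078381a0b0501c0800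
noncomputable def D0 (u : ℕ) : ℕ := Nat.land (Nat.shiftRight D0d (Nat.mul u (nat_lit 9))) (nat_lit 511)
noncomputable def RL0 : List (List Rule) := [[.rel (nat_lit 22) (nat_lit 0) [nat_lit 4, nat_lit 1, nat_lit 4], .defn, .rel (nat_lit 0) (nat_lit 0) [nat_lit 1], .rel (nat_lit 16) (nat_lit 0) [nat_lit 3, nat_lit 1, nat_lit 3], .rel (nat_lit 10) (nat_lit 3) [nat_lit 0, nat_lit 0, nat_lit 0], .rel (nat_lit 26) (nat_lit 0) [nat_lit 2, nat_lit 3, nat_lit 2, nat_lit 1, nat_lit 4, nat_lit 2, nat_lit 0, nat_lit 4, nat_lit 3, nat_lit 2, nat_lit 4], .rel (nat_lit 10) (nat_lit 2) [nat_lit 0, nat_lit 0, nat_lit 0], .rel (nat_lit 12) (nat_lit 4) [nat_lit 2, nat_lit 1, nat_lit 1, nat_lit 2, nat_lit 0, nat_lit 0, nat_lit 2, nat_lit 0], .rel (nat_lit 10) (nat_lit 0) [nat_lit 0, nat_lit 0, nat_lit 0], .sub (nat_lit 0) [] [], .rel (nat_lit 12) (nat_lit 1) [nat_lit 2, nat_lit 0, nat_lit 0, nat_lit 2, nat_lit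 1, nat_lit 1, nat_lit 2, nat_lit 0], .rel (nat_lit 14) (nat_lit 8) [nat_lit 2, nat_lit 0, nat_lit 2, nat_lit 0, nat_lit 2, nat_lit 0, nat_lit 2, nat_lit 0, nat_lit 2, nat_lit 0, nat_lit 2, nat_lit 0, nat_lit 2], .rel (nat_lit 20) (nat_lit 8) [nat_lit 3, nat_lit 2, nat_lit 1, nat_lit 2, nat_lit 1, nat_lit 2, nat_lit 0, nat_lit 2, nat_lit 0, nat_lit 2, nat_lit 3, nat_lit 2, nat_lit 0, nat_lit 2, nat_lit 0, nat_lit 2, nat_lit 1, nat_lit 2, nat_lit 1, nat_lit 2], .rel (nat_lit 26) (nat_lit 7) [nat_lit 4, nat_lit 3, nat_lit 2, nat_lit 4, nat_lit 0, nat_lit 2, nat_lit 3, nat_lit 2, nat_lit 1, nat_lit 4, nat_lit 2], .rel (nat_lit 28) (nat_lit 1) [nat_lit 2, nat_lit 4, nat_lit 2, nat_lit 4, nat_lit 3, nat_lit 2, nat_lit 4, nat_lit 2, nat_lit 4, nat_lit 2, nat_lit 3, nat_lit 4, nat_lit 2, nat_lit 4, nat_lit 2, nat_lit 3, nat_lit 0]],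
  [.rel (nat_lit 2) (nat_lit 0) [nat_lit 0], .defn, .rel (nat_lit 22) (nat_lit 2) [nat_lit 4, nat_lit 0, nat_lit 4], .rel (nat_lit 12) (nat_lit 7) [nat_lit 2, nat_lit 0, nat_lit 0, nat_lit 2, nat_lit 0, nat_lit 0, nat_lit 2, nat_lit 1], .rel (nat_lit 16) (nat_lit 2) [nat_lit 3, nat_lit 0, nat_lit 3], .sub (nat_lit 2) [] [], .rel (nat_lit 12) (nat_lit 6) [nat_lit 1, nat_lit 2, nat_lit 0, nat_lit 0, nat_lit 2, nat_lit 0, nat_lit 0, nat_lit 2]],
  [.rel (nat_lit 4) (nat_lit 0) [nat_lit 2], .defn, .rel (nat_lit 18) (nat_lit 4) [nat_lit 3, nat_lit 2, nat_lit 3, nat_lit 2, nat_lit 3], .rel (nat_lit 12) (nat_lit 2) [nat_lit 0, nat_lit 0, nat_lit 2, nat_lit 1, nat_lit 1, nat_lit 2, nat_lit 0, nat_lit 0], .rel (nat_lit 12) (nat_lit 8) [nat_lit 0, nat_lit 0, nat_lit 2, nat_lit 0, nat_lit 0, nat_lit 2, nat_lit 1, nat_lit 1], .rel (nat_lit 14) (nat_lit 7) [nat_lit 0, nat_lit 2, nat_lit 0, nat_lit 2, nat_lit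 0, nat_lit 2, nat_lit 0, nat_lit 2, nat_lit 0, nat_lit 2, nat_lit 0, nat_lit 2, nat_lit 0], .rel (nat_lit 14) (nat_lit 13) [nat_lit 0, nat_lit 2, nat_lit 0, nat_lit 2, nat_lit 0, nat_lit 2, nat_lit 0, nat_lit 2, nat_lit 0, nat_lit 2, nat_lit 0, nat_lit 2, nat_lit 0], .rel (nat_lit 18) (nat_lit 2) [nat_lit 3, nat_lit 2, nat_lit 3, nat_lit 2, nat_lit 3], .rel (nat_lit 24) (nat_lit 2) [nat_lit 4, nat_lit 2, nat_lit 4, nat_lit 2, nat_lit 4, nat_lit 2, nat_lit 4, nat_lit 2, nat_lit 4], .rel (nat_lit 24) (nat_lit 6) [nat_lit 4, nat_lit 2, nat_lit 4, nat_lit 2, nat_lit 4, nat_lit 2, nat_lit 4, nat_lit 2, nat_lit 4], .rel (nat_lit 26) (nat_lit 6) [nat_lit 0, nat_lit 4, nat_lit 3, nat_lit 2, nat_lit 4, nat_lit 0, nat_lit 2, nat_lit 3, nat_lit 2, nat_lit 1, nat_lit 4], .sub (nat_lit 4) [] [], .rel (nat_lit 12) (nat_lit 5) [nat_lit 1, nat_lit 1, nat_lit 2, nat_lit 0, nat_lit 0, nat_lit 2, nat_lit 0,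 nat_lit 0], .rel (nat_lit 18) (nat_lit 0) [nat_lit 3, nat_lit 2, nat_lit 3, nat_lit 2, nat_lit 3], .rel (nat_lit 24) (nat_lit 8) [nat_lit 4, nat_lit 2, nat_lit 4, nat_lit 2, nat_lit 4, nat_lit 2, nat_lit 4, nat_lit 2, nat_lit 4], .rel (nat_lit 26) (nat_lit 3) [nat_lit 1, nat_lit 4, nat_lit 2, nat_lit 0, nat_lit 4, nat_lit 3, nat_lit 2, nat_lit 4, nat_lit 0, nat_lit 2, nat_lit 3], .rel (nat_lit 28) (nat_lit 2) [nat_lit 4, nat_lit 2, nat_lit 4, nat_lit 3, nat_lit 2, nat_lit 4, nat_lit 2, nat_lit 4, nat_lit 2, nat_lit 3, nat_lit 4, nat_lit 2, nat_lit 4, nat_lit 2, nat_lit 3, nat_lit 0, nat_lit 0], .rel (nat_lit 28) (nat_lit 9) [nat_lit 4, nat_lit 2, nat_lit 3, nat_lit 4, nat_lit 2, nat_lit 4, nat_lit 2, nat_lit 3, nat_lit 0, nat_lit 0, nat_lit 2, nat_lit 4, nat_lit 2, nat_lit 4, nat_lit 3, nat_lit 2, nat_lit 4]],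
  [.rel (nat_lit 6) (nat_lit 0) [nat_lit 3], .rel (nat_lit 16) (nat_lit 1) [nat_lit 1, nat_lit 3, nat_lit 0], .defn, .rel (nat_lit 18) (nat_lit 3) [nat_lit 2, nat_lit 3, nat_lit 2, nat_lit 3, nat_lit 2], .rel (nat_lit 26) (nat_lit 9) [nat_lit 2, nat_lit 4, nat_lit 0, nat_lit 2, nat_lit 3, nat_lit 2, nat_lit 1, nat_lit 4, nat_lit 2, nat_lit 0, nat_lit 4], .rel (nat_lit 16) (nat_lit 3) [nat_lit 0, nat_lit 3, nat_lit 1], .rel (nat_lit 26) (nat_lit 2) [nat_lit 2, nat_lit 1, nat_lit 4, nat_lit 2, nat_lit 0, nat_lit 4, nat_lit 3, nat_lit 2, nat_lit 4, nat_lit 0, nat_lit 2], .rel (nat_lit 18) (nat_lit 5) [nat_lit 2, nat_lit 3, nat_lit 2, nat_lit 3, nat_lit 2], .sub (nat_lit 6) [] [], .rel (nat_lit 18) (nat_lit 1) [nat_lit 2, nat_lit 3, nat_lit 2, nat_lit 3, nat_lit 2], .rel (nat_lit 28) (nat_lit 12) [nat_lit 4, nat_lit 2, nat_lit 4, nat_lit 2, nat_lit 3, nat_lit 0, nat_lit 0, nat_lit 2, nat_lit 4,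 nat_lit 2, nat_lit 4, nat_lit 3, nat_lit 2, nat_lit 4, nat_lit 2, nat_lit 4, nat_lit 2]],
  [.rel (nat_lit 8) (nat_lit 0) [nat_lit 4], .defn, .rel (nat_lit 22) (nat_lit 1) [nat_lit 1, nat_lit 4, nat_lit 0], .rel (nat_lit 24) (nat_lit 5) [nat_lit 2, nat_lit 4, nat_lit 2, nat_lit 4, nat_lit 2, nat_lit 4, nat_lit 2, nat_lit 4, nat_lit 2], .rel (nat_lit 26) (nat_lit 5) [nat_lit 2, nat_lit 0, nat_lit 4, nat_lit 3, nat_lit 2, nat_lit 4, nat_lit 0, nat_lit 2, nat_lit 3, nat_lit 2, nat_lit 1], .rel (nat_lit 26) (nat_lit 8) [nat_lit 3, nat_lit 2, nat_lit 4, nat_lit 0, nat_lit 2, nat_lit 3, nat_lit 2, nat_lit 1, nat_lit 4, nat_lit 2, nat_lit 0], .rel (nat_lit 26) (nat_lit 11) [nat_lit 0, nat_lit 2, nat_lit 3, nat_lit 2, nat_lit 1, nat_lit 4, nat_lit 2, nat_lit 0, nat_lit 4, nat_lit 3, nat_lit 2], .rel (nat_lit 22) (nat_lit 3) [nat_lit 0, nat_lit 4, nat_lit 1], .rel (nat_lit 24) (nat_lit 9) [nat_lit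 2, nat_lit 4, nat_lit 2, nat_lit 4, nat_lit 2, nat_lit 4, nat_lit 2, nat_lit 4, nat_lit 2], .rel (nat_lit 28) (nat_lit 3) [nat_lit 2, nat_lit 4, nat_lit 3, nat_lit 2, nat_lit 4, nat_lit 2, nat_lit 4, nat_lit 2, nat_lit 3, nat_lit 4, nat_lit 2, nat_lit 4, nat_lit 2, nat_lit 3, nat_lit 0, nat_lit 0, nat_lit 2], .rel (nat_lit 28) (nat_lit 15) [nat_lit 2, nat_lit 3, nat_lit 0, nat_lit 0, nat_lit 2, nat_lit 4, nat_lit 2, nat_lit 4, nat_lit 3, nat_lit 2, nat_lit 4, nat_lit 2, nat_lit 4, nat_lit 2, nat_lit 3, nat_lit 4, nat_lit 2]]]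
noncomputable def c0 : TCert := ⟨100, 5, 127, T0, I0, D0, [[nat_lit 0],
  [nat_lit 1],
  [nat_lit 2],
  [nat_lit 3]], RL0⟩
noncomputable def Pt0 (u : ℕ) : ℕ := u
noncomputable def Q0 (u : ℕ) : ℕ := u
noncomputable def l0 : Lev := ⟨100, 5, D0, Pt0, Q0⟩
noncomputable def T1d : List ℕ := [nat_lit 0x640d8d4dc9e0bfa88cb8dcd4324eeacd0d3b74706e19d3553305698c2d5270a647d2583f2368ed17a2302642d0ba0f00e80,
  nat_lit 0x64597b2dae303f1832b89c4c394eea6502bb73eccdcd8b592ecb498b95922ead12c8f74687646d19a2721dc5c85a12e0e80,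
  nat_lit 0x54708810e5acb39608ee56caba834fe9ec9fa734dad4c97338e8e49d2f44a86cccd2762b485c8c8990ec2e87d0d90741680,
  nat_lit 0xcbcf8230ba28b9a8eaec9f936d6b29258b2f93b2664b627a6724a10c91a5b23e95d2991b48e8fd1ba2ac2d44b8780b20681]
noncomputable def T1 (k u : ℕ) : ℕ := Nat.land (Nat.shiftRight (nth (nat_lit 0) T1d k) (Nat.mul u (nat_lit 11))) (nat_lit 2047)
noncomputable def I1d : List ℕ := [nat_lit 0x712910280242041101101113013000630015,
  nat_lit 0x11000102,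
  nat_lit 0x374000900111011200201624121800311015,
  nat_lit 0x52001233403300021020101101111222401]
noncomputable def I1 (k u : ℕ) : ℕ := Nat.land (Nat.shiftRight (nth (nat_lit 0) I1d k) (Nat.mul u (nat_lit 4))) (nat_lit 15)
noncomputable def D1d : ℕ := nat_lit 0xf7e366acd8ae5aad325c07ced9af5cb13a64680f9d386cc9824386091018180
noncomputable def D1 (u : ℕ) : ℕ := Nat.land (Nat.shiftRight D1d (Nat.mul u (nat_lit 7))) (nat_lit 127)
noncomputable def RL1 : List (List Rule) := [[.defn, .rel (nat_lit 16) (nat_lit 0) [nat_lit 3, nat_lit 1, nat_lit 3], .rel (nat_lit 12) (nat_lit 4) [nat_lit 2, nat_lit 1, nat_lit 1, nat_lit 2, nat_lit 0, nat_lit 0, nat_lit 2, nat_lit 0], .rel (nat_lit 0) (nat_lit 0) [nat_lit 1], .rel (nat_lit 10) (nat_lit 2) [nat_lit 0, nat_lit 0, nat_lit 0], .sub (nat_lit 0) [] [], .rel (nat_lit 10) (nat_lit 0) [nat_lit 0, nat_lit 0, nat_lit 0], .rel (nat_lit 10) (nat_lit 1) [nat_lit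 0, nat_lit 0, nat_lit 0], .rel (nat_lit 14) (nat_lit 6) [nat_lit 2, nat_lit 0, nat_lit 2, nat_lit 0, nat_lit 2, nat_lit 0, nat_lit 2, nat_lit 0, nat_lit 2, nat_lit 0, nat_lit 2, nat_lit 0, nat_lit 2], .rel (nat_lit 14) (nat_lit 12) [nat_lit 2, nat_lit 0, nat_lit 2, nat_lit 0, nat_lit 2, nat_lit 0, nat_lit 2, nat_lit 0, nat_lit 2, nat_lit 0, nat_lit 2, nat_lit 0, nat_lit 2]],
  [.rel (nat_lit 2) (nat_lit 0) [nat_lit 0], .defn, .sub (nat_lit 2) [] []],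
  [.rel (nat_lit 4) (nat_lit 0) [nat_lit 2], .defn, .rel (nat_lit 18) (nat_lit 4) [nat_lit 3, nat_lit 2, nat_lit 3, nat_lit 2, nat_lit 3], .rel (nat_lit 12) (nat_lit 8) [nat_lit 0, nat_lit 0, nat_lit 2, nat_lit 0, nat_lit 0, nat_lit 2, nat_lit 1, nat_lit 1], .rel (nat_lit 14) (nat_lit 5) [nat_lit 0, nat_lit 2, nat_lit 0, nat_lit 2, nat_lit 0, nat_lit 2, nat_lit 0, nat_lit 2, nat_lit 0, nat_lit 2, nat_lit 0, nat_lit 2, nat_lit 0], .sub (nat_lit 4) [] [], .rel (nat_lit 12) (nat_lit 2) [nat_lit 0, nat_lit 0, nat_lit 2, nat_lit 1, nat_lit 1, nat_lit 2, nat_lit 0, nat_lit 0], .rel (nat_lit 12) (nat_lit 5) [nat_lit 1, nat_lit 1, nat_lit 2, nat_lit 0, nat_lit 0, nat_lit 2, nat_lit 0, nat_lit 0], .rel (nat_lit 20) (nat_lit 3) [nat_lit 1, nat_lit 2, nat_lit 1, nat_lit 2, nat_lit 0, nat_lit 3, nat_lit 2, nat_lit 1, nat_lit 2, nat_lit 1, nat_lit 2, nat_lit 0, nat_lit 2, nat_lit 0, nat_lit 2, nat_lit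 3, nat_lit 2, nat_lit 0, nat_lit 2, nat_lit 0], .rel (nat_lit 20) (nat_lit 5) [nat_lit 1, nat_lit 2, nat_lit 0, nat_lit 3, nat_lit 2, nat_lit 1, nat_lit 2, nat_lit 1, nat_lit 2, nat_lit 0, nat_lit 2, nat_lit 0, nat_lit 2, nat_lit 3, nat_lit 2, nat_lit 0, nat_lit 2, nat_lit 0, nat_lit 2, nat_lit 1]],
  [.rel (nat_lit 6) (nat_lit 0) [nat_lit 3], .defn, .rel (nat_lit 16) (nat_lit 1) [nat_lit 1, nat_lit 3, nat_lit 0], .rel (nat_lit 18) (nat_lit 3) [nat_lit 2, nat_lit 3, nat_lit 2, nat_lit 3, nat_lit 2], .rel (nat_lit 18) (nat_lit 5) [nat_lit 2, nat_lit 3, nat_lit 2, nat_lit 3, nat_lit 2], .rel (nat_lit 20) (nat_lit 19) [nat_lit 2, nat_lit 0, nat_lit 2, nat_lit 0, nat_lit 2, nat_lit 1, nat_lit 2, nat_lit 1, nat_lit 2, nat_lit 0, nat_lit 3, nat_lit 2, nat_lit 1, nat_lit 2, nat_lit 1, nat_lit 2, nat_lit 0, nat_lit 2, nat_lit 0, nat_lit 2]]]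
noncomputable def c1 : TCert := ⟨36, 4, 63, T1, I1, D1, [[nat_lit 0],
  [nat_lit 1],
  [nat_lit 2]], RL1⟩
noncomputable def Pt1d : ℕ := nat_lit 0xb91ed5daf427c88589f386ec962ba8a9121407e01576d083050724bf672af63
noncomputable def Pt1 (u : ℕ) : ℕ := Nat.land (Nat.shiftRight Pt1d (Nat.mul u (nat_lit 7))) (nat_lit 127)
noncomputable def Q1d : ℕ := nat_lit 0x1a0000018230210007c001300001e74000000215c88000001b00d1190002c00185c000a0d600800001551200700000001140f380006000000000300000009000000000000000000000000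
noncomputable def Q1 (u : ℕ) : ℕ := Nat.land (Nat.shiftRight Q1d (Nat.mul u (nat_lit 6))) (nat_lit 63)
noncomputable def l1 : Lev := ⟨36, 4, D1, Pt1, Q1⟩
noncomputable def T2d : List ℕ := [nat_lit 0x7a720c7de73a31a98a24b611c876d6d9b65b5363b4b10d870fd7b0dd6f0cd6757d56cad4f51b2306d3b05d2f49d1ec3c0744d0b40,
  nat_lit 0x6a4a569b1dc71e2c6a23c5f68d9f1577ce0c4f64c46a1c429ec3e9bc3699c3358d5b09d5352c1e8ec1a8bc174ad2302a1301d0f40,
  nat_lit 0xc90271a02519b6958f1787b16c5661c53138671296e91d8b60d7f5dd735ab630ac260bc230793b50d3f4dd3303c0a44d1b45c0341]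
noncomputable def T2 (k u : ℕ) : ℕ := Nat.land (Nat.shiftRight (nth (nat_lit 0) T2d k) (Nat.mul u (nat_lit 10))) (nat_lit 1023)
noncomputable def I2d : List ℕ := [nat_lit 0x811331762442002021010101000200210100021005,
  nat_lit 0x110000100000000011011000001100012,
  nat_lit 0x4031200002000020111111500000211110031101]
noncomputable def I2 (k u : ℕ) : ℕ := Nat.land (Nat.shiftRight (nth (nat_lit 0) I2d k) (Nat.mul u (nat_lit 4))) (nat_lit 15)
noncomputable def D2d : ℕ := nat_lit 0x3761bd5ea4f9d1e2c482fdf3b72e19b160b96a84e952203a6cd172a4c9101e2c406080c100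
noncomputable def D2 (u : ℕ) : ℕ := Nat.land (Nat.shiftRight D2d (Nat.mul u (nat_lit 7))) (nat_lit 127)
noncomputable def RL2 : List (List Rule) := [[.defn, .rel (nat_lit 0) (nat_lit 0) [nat_lit 1], .rel (nat_lit 10) (nat_lit 0) [nat_lit 0, nat_lit 0, nat_lit 0], .rel (nat_lit 10) (nat_lit 2) [nat_lit 0, nat_lit 0, nat_lit 0], .rel (nat_lit 14) (nat_lit 8) [nat_lit 2, nat_lit 0, nat_lit 2, nat_lit 0, nat_lit 2, nat_lit 0, nat_lit 2, nat_lit 0, nat_lit 2, nat_lit 0, nat_lit 2, nat_lit 0, nat_lit 2], .sub (nat_lit 0) [] [], .rel (nat_lit 10) (nat_lit 1) [nat_lit 0, nat_lit 0, nat_lit 0], .rel (nat_lit 12) (nat_lit 4) [nat_lit 2, nat_lit 1, nat_lit 1, nat_lit 2, nat_lit 0, nat_lit 0, nat_lit 2, nat_lit 0], .rel (nat_lit 14) (nat_lit 2) [nat_lit 2, nat_lit 0, nat_lit 2, nat_lit 0, nat_lit 2, nat_lit 0, nat_lit 2, nat_lit 0, nat_lit 2, nat_lit 0, nat_lit 2, nat_lit 0, nat_lit 2]],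
  [.rel (nat_lit 2) (nat_lit 0) [nat_lit 0], .defn, .sub (nat_lit 2) [] []],
  [.rel (nat_lit 4) (nat_lit 0) [nat_lit 2], .defn, .rel (nat_lit 12) (nat_lit 2) [nat_lit 0, nat_lit 0, nat_lit 2, nat_lit 1, nat_lit 1, nat_lit 2, nat_lit 0, nat_lit 0], .rel (nat_lit 12) (nat_lit 8) [nat_lit 0, nat_lit 0, nat_lit 2, nat_lit 0, nat_lit 0, nat_lit 2, nat_lit 1, nat_lit 1], .rel (nat_lit 12) (nat_lit 5) [nat_lit 1, nat_lit 1, nat_lit 2, nat_lit 0, nat_lit 0, nat_lit 2, nat_lit 0, nat_lit 0], .rel (nat_lit 14) (nat_lit 13) [nat_lit 0, nat_lit 2, nat_lit 0, nat_lit 2, nat_lit 0, nat_lit 2, nat_lit 0, nat_lit 2, nat_lit 0, nat_lit 2, nat_lit 0, nat_lit 2, nat_lit 0]]]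
noncomputable def c2 : TCert := ⟨42, 3, 63, T2, I2, D2, [[nat_lit 0],
  [nat_lit 1]], RL2⟩
noncomputable def Pt2d : ℕ := nat_lit 0xb55b31a68b0a24cbd82518b61e18c24229d49b3c316a3754979786e69c55d46258bf6e5e0
noncomputable def Pt2 (u : ℕ) : ℕ := Nat.land (Nat.shiftRight Pt2d (Nat.mul u (nat_lit 7))) (nat_lit 127)
noncomputable def Q2d : ℕ := nat_lit 0xc00000809c4000a0024e1800009400400000262052c07c000080000f28001c00000074034744000054058001840000001300050085932901e0005c06c001290088001a8c0000000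
noncomputable def Q2 (u : ℕ) : ℕ := Nat.land (Nat.shiftRight Q2d (Nat.mul u (nat_lit 6))) (nat_lit 63)
noncomputable def l2 : Lev := ⟨42, 3, D2, Pt2, Q2⟩
noncomputable def T3d : List ℕ := [nat_lit 0x68fd,
  nat_lit 0x938e]
noncomputable def T3 (k u : ℕ) : ℕ := Nat.land (Nat.shiftRight (nth (nat_lit 0) T3d k) (Nat.mul u (nat_lit 4))) (nat_lit 15)
noncomputable def I3d : List ℕ := [nat_lit 0x90,
  nat_lit 1]
noncomputable def I3 (k u : ℕ) : ℕ := Nat.land (Nat.shiftRight (nth (nat_lit 0) I3d k) (Nat.mul u (nat_lit 2))) (nat_lit 3)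
noncomputable def D3d : ℕ := nat_lit 0x90
noncomputable def D3 (u : ℕ) : ℕ := Nat.land (Nat.shiftRight D3d (Nat.mul u (nat_lit 2))) (nat_lit 3)
noncomputable def RL3 : List (List Rule) := [[.defn, .rel (nat_lit 0) (nat_lit 0) [nat_lit 1], .rel (nat_lit 10) (nat_lit 0) [nat_lit 0, nat_lit 0, nat_lit 0]],
  [.rel (nat_lit 2) (nat_lit 0) [nat_lit 0], .defn]]
noncomputable def c3 : TCert := ⟨4, 2, 3, T3, I3, D3, [], RL3⟩
noncomputable def Pt3d : ℕ := nat_lit 0x568abb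
noncomputable def Pt3 (u : ℕ) : ℕ := Nat.land (Nat.shiftRight Pt3d (Nat.mul u (nat_lit 6))) (nat_lit 63)
noncomputable def Q3d : ℕ := nat_lit 0x12000000000c0000000000
noncomputable def Q3 (u : ℕ) : ℕ := Nat.land (Nat.shiftRight Q3d (Nat.mul u (nat_lit 2))) (nat_lit 3)
noncomputable def l3 : Lev := ⟨4, 2, D3, Pt3, Q3⟩
noncomputable def B : List ℕ := [nat_lit 0, nat_lit 99, nat_lit 96, nat_lit 59]
noncomputable def L : List Lev := [l0, l1, l2, l3]
noncomputable def Rs : List Root := [⟨(nat_lit 1), [[nat_lit 4],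
  [nat_lit 4]], [((nat_lit 6), [nat_lit 5]),
  ((nat_lit 4), [nat_lit 5])]⟩,
  ⟨(nat_lit 16), [[nat_lit 4, nat_lit 2, nat_lit 0, nat_lit 2, nat_lit 4],
  [nat_lit 4, nat_lit 2, nat_lit 1, nat_lit 2, nat_lit 4]], [((nat_lit 6), [nat_lit 5]),
  ((nat_lit 4), [nat_lit 0, nat_lit 2, nat_lit 3, nat_lit 2, nat_lit 0, nat_lit 5, nat_lit 5, nat_lit 3, nat_lit 1, nat_lit 2])]⟩]
noncomputable def Fod : ℕ := nat_lit 0x5bdad4226152e8a324a92829438893421e0b37d47d44e5dea8ee7753b95dc86e256e3bc9db0ed69be1b34d986ca4a03b11d7ceb975c2ac994caa34921aad93cc98354b25d91c48444131e98e847323911fd8dc470635b1798c285747791f949e854525a929490c64522890c4846c3120a8ed47424051ba8d1488a3e51828b8d5082b414a0a104c002411a08504081a40f9848c1e60e306184c8164092040818002000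
noncomputable def Fo (u : ℕ) : ℕ := Nat.land (Nat.shiftRight Fod (Nat.mul u (nat_lit 13))) (nat_lit 8191)
noncomputable def nx : List ℕ := [nat_lit 4, nat_lit 2]
noncomputable def nL : List (List ℕ × ℕ) := [([nat_lit 1, nat_lit 2, nat_lit 0, nat_lit 2], (nat_lit 4)),
  ([nat_lit 0, nat_lit 2, nat_lit 4, nat_lit 2], (nat_lit 4)),
  ([nat_lit 1, nat_lit 3], (nat_lit 2)),
  ([nat_lit 1, nat_lit 2], (nat_lit 2)),
  ([nat_lit 3], (nat_lit 2))]

theorem tc0e_a : allZ2 (entryChk T0 (selR RL0 I0) D0 (nat_lit 127) (nat_lit 100) (nat_lit 5)) (nat_lit 5) (nat_lit 100) = true := by decide +kernel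
theorem tc0r : rulesChk Rl c0.Sl RL0 (nat_lit 5) = true := by decide +kernel
theorem ivc : ivChk Rl (nat_lit 5) = true := by decide +kernel
theorem lv0e_0 : allZ (l0.ent P) (nat_lit 0) (nat_lit 99) = true := by decide +kernel
theorem lv0b : Nat.blt (Pt0 (nat_lit 0)) (nat_lit 100) = true ∧ Q0 (Pt0 (nat_lit 0)) = 0 ∧ Pt0 (nat_lit 0) = 0 := by decide +kernel
theorem sb0 : allL (ltAll (nat_lit 4)) c0.Sl = true ∧ fixLetters P (nat_lit 4) (Pt0 (nat_lit 0)) = true := by decide +kernel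
theorem tc1e_a : allZ2 (entryChk T1 (selR RL1 I1) D1 (nat_lit 63) (nat_lit 36) (nat_lit 4)) (nat_lit 4) (nat_lit 36) = true := by decide +kernel
theorem tc1r : rulesChk Rl c1.Sl RL1 (nat_lit 4) = true := by decide +kernel
theorem lv1e_0 : allZ (l1.ent P) (nat_lit 0) (nat_lit 35) = true := by decide +kernel
theorem lv1b : Nat.blt (Pt1 (nat_lit 0)) (nat_lit 100) = true ∧ Q1 (Pt1 (nat_lit 0)) = 0 ∧ Pt1 (nat_lit 0) = 99 := by decide +kernel
theorem sb1 : allL (ltAll (nat_lit 3)) c1.Sl = true ∧ fixLetters P (nat_lit 3) (Pt1 (nat_lit 0)) = true := by decide +kernel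
theorem tc2e_a : allZ2 (entryChk T2 (selR RL2 I2) D2 (nat_lit 63) (nat_lit 42) (nat_lit 3)) (nat_lit 3) (nat_lit 42) = true := by decide +kernel
theorem tc2r : rulesChk Rl c2.Sl RL2 (nat_lit 3) = true := by decide +kernel
theorem lv2e_0 : allZ (l2.ent P) (nat_lit 0) (nat_lit 41) = true := by decide +kernel
theorem lv2b : Nat.blt (Pt2 (nat_lit 0)) (nat_lit 100) = true ∧ Q2 (Pt2 (nat_lit 0)) = 0 ∧ Pt2 (nat_lit 0) = 96 := by decide +kernel
theorem sb2 : allL (ltAll (nat_lit 2)) c2.Sl = true ∧ fixLetters P (nat_lit 2) (Pt2 (nat_lit 0)) = true := by decide +kernel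
theorem tc3e_a : allZ2 (entryChk T3 (selR RL3 I3) D3 (nat_lit 3) (nat_lit 4) (nat_lit 2)) (nat_lit 2) (nat_lit 4) = true := by decide +kernel
theorem tc3r : rulesChk Rl c3.Sl RL3 (nat_lit 2) = true := by decide +kernel
theorem lv3e_0 : allZ (l3.ent P) (nat_lit 0) (nat_lit 3) = true := by decide +kernel
theorem lv3b : Nat.blt (Pt3 (nat_lit 0)) (nat_lit 100) = true ∧ Q3 (Pt3 (nat_lit 0)) = 0 ∧ Pt3 (nat_lit 0) = 59 := by decide +kernel
theorem sb3 : allL (ltAll (nat_lit 0)) c3.Sl = true ∧ fixLetters P (nat_lit 0) (Pt3 (nat_lit 0)) = true := by decide +kernel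
theorem Blt : ltAll (nat_lit 100) B = 0 := by decide +kernel
theorem ivk : ivLt Rl (nat_lit 5) = true := by decide +kernel
theorem pe_a : allZ2 (permEnt P (ivOf Rl) (nat_lit 100)) (nat_lit 5) (nat_lit 100) = true := by decide +kernel
theorem rf0 : allL (fixRange P (nat_lit 5) (nat_lit 0) (nat_lit 100)) (Rl.drop (nat_lit 5)) = true := by decide +kernel
theorem Foe_0 : allZ (forEnt P Fo (nat_lit 4) (nat_lit 511) (nat_lit 100) ((nat_lit 0) :: Rs.map Root.r)) (nat_lit 0) (nat_lit 100) = true := by decide +kernel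
theorem rtc : allL (Root.chk P (nat_lit 5) B (nat_lit 4) (nat_lit 0)) Rs = true ∧ fixLetters P (nat_lit 4) (nat_lit 0) = true := by decide +kernel
theorem nc1 : allZ (fun k => force k (nclEnt P Rl (nat_lit 5) B nx nL)) 0 (nat_lit 5) = true := by decide +kernel
theorem nc2 : powL P (nat_lit 5) B nx (nat_lit 5) = 0 := by decide +kernel

theorem tc0e : ∀ k < 5, ∀ i < 100, (entryChk T0 (selR RL0 I0) D0 (nat_lit 127) (nat_lit 100) (nat_lit 5)) k i = 0 := allZ2_sound tc0e_a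
theorem tc0 : c0.OK Rl 5 := ⟨by decide, by decide, by decide, ivc, tc0r, tc0e⟩
theorem lv0e : ∀ i < 99, (l0.ent P) i = 0 := allZ_sound0 lv0e_0
theorem lv0 : l0.OK P 100 := ⟨by decide, by decide, lt_of_blt lv0b.1, lv0b.2.1, lv0e⟩
theorem tc1e : ∀ k < 4, ∀ i < 36, (entryChk T1 (selR RL1 I1) D1 (nat_lit 63) (nat_lit 36) (nat_lit 4)) k i = 0 := allZ2_sound tc1e_a
theorem tc1 : c1.OK Rl 5 := ⟨by decide, by decide, by decide, ivc, tc1r, tc1e⟩
theorem lv1e : ∀ i < 35, (l1.ent P) i = 0 := allZ_sound0 lv1e_0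
theorem lv1 : l1.OK P 100 := ⟨by decide, by decide, lt_of_blt lv1b.1, lv1b.2.1, lv1e⟩
theorem tc2e : ∀ k < 3, ∀ i < 42, (entryChk T2 (selR RL2 I2) D2 (nat_lit 63) (nat_lit 42) (nat_lit 3)) k i = 0 := allZ2_sound tc2e_a
theorem tc2 : c2.OK Rl 5 := ⟨by decide, by decide, by decide, ivc, tc2r, tc2e⟩
theorem lv2e : ∀ i < 41, (l2.ent P) i = 0 := allZ_sound0 lv2e_0
theorem lv2 : l2.OK P 100 := ⟨by decide, by decide, lt_of_blt lv2b.1, lv2b.2.1, lv2e⟩
theorem tc3e : ∀ k < 2, ∀ i < 4, (entryChk T3 (selR RL3 I3) D3 (nat_lit 3) (nat_lit 4) (nat_lit 2)) k i = 0 := allZ2_sound tc3e_a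
theorem tc3 : c3.OK Rl 5 := ⟨by decide, by decide, by decide, ivc, tc3r, tc3e⟩
theorem lv3e : ∀ i < 3, (l3.ent P) i = 0 := allZ_sound0 lv3e_0
theorem lv3 : l3.OK P 100 := ⟨by decide, by decide, lt_of_blt lv3b.1, lv3b.2.1, lv3e⟩
theorem bound3 : Bound Rl 2 4 := Bound.step' (Bound.zero Rl) tc3 sb3.1 (by decide +kernel)
theorem bound2 : Bound Rl 3 168 := Bound.step' (bound3) tc2 sb2.1 (by decide +kernel)
theorem bound1 : Bound Rl 4 6048 := Bound.step' (bound2) tc1 sb1.1 (by decide +kernel)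
theorem bound0 : Bound Rl 5 604800 := Bound.step' (bound1) tc0 sb0.1 (by decide +kernel)
/-- every tuple satisfying `Rl` generates a group of order at most `604800` -/
theorem bound : Bound Rl 5 604800 := bound0
theorem chain_of {G Ω : Type*} [Group G] [MulAction G Ω] {g : ℕ → G} {pt : ℕ → Ω}
    (h : Act g pt P 100 5) (hR : Rels g Rl) : IsChain g pt 100 L :=
  IsChain.cons (L := [l1, l2, l3]) (IsChain.cons (L := [l2, l3]) (IsChain.cons (L := [l3]) (IsChain.cons (L := []) (trivial) h hR tc3 lv3 rfl rfl rfl (by decide) sb3.1 sb3.2) h hR tc2 lv2 rfl rfl rfl (by decide) sb2.1 sb2.2) h hR tc1 lv1 rfl rfl rfl (by decide) sb1.1 sb1.2) h hR tc0 lv0 rfl rfl rfl (by decide) sb0.1 sb0.2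
theorem base_eq : chainBase L = B := by decide +kernel
theorem pe : ∀ k < 5, ∀ i < 100, (permEnt P (ivOf Rl) (nat_lit 100)) k i = 0 := allZ2_sound pe_a
/-- the letters -/
noncomputable def g : ℕ → Equiv.Perm (Fin 100) := permGen 100 P
theorem act : Act g (ptF 100) P 100 5 := act_permGen pe
theorem rels : Rels g Rl :=
  rels_perm pe ivc ivk (FixUpTo.first rf0)
theorem chain : IsChain g (ptF 100) 100 L := chain_of act rels
theorem card : Nat.card (gen g 5) = 604800 := chain.card' (ptF_inj 100) (by decide +kernel)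
theorem isBase : IsBase (gen g 5) (ptF 100) B := base_eq ▸ chain.isBase (ptF_inj 100)
theorem Foe : ∀ i < 100, (forEnt P Fo (nat_lit 4) (nat_lit 511) (nat_lit 100) ((nat_lit 0) :: Rs.map Root.r)) i = 0 := allZ_sound0 Foe_0
theorem maxCert_of' {G Ω : Type*} [Group G] [MulAction G Ω] {g : ℕ → G} {pt : ℕ → Ω}
    (h : Act g pt P 100 5) (hb : IsBase (gen g 5) pt B) : MaxCert g pt 100 5 4 0 :=
  maxCert_of h Blt hb (by decide) Foe rtc.2 rtc.1
theorem maxCert : MaxCert g (ptF 100) 100 l0.K (topK [l1, l2, l3]) (l0.Pt 0) :=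
  lv0b.2.2 ▸ maxCert_of' act isBase
theorem simple : IsSimpleGroup (gen g 5) :=
  simple_of_cert (l := l0) (L := [l1, l2, l3]) chain (ptF_inj 100) maxCert Blt isBase
    (evA_mem_gen g (powL_eq_one act Blt isBase nc2).1) (powL_eq_one act Blt isBase nc2).2
    (by decide +kernel) (by decide) fun _ hA hx => ncl_sound act Blt isBase rels ivc nc1 le_rfl hA hx

end H16.J2
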