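import Cfsg.Agent.H16.Slp

/-! Generated by tools/h16 (computation kit). -/

set_option maxRecDepth 100000
set_option maxHeartbeats 0

namespace H16.S62

noncomputable def Rl : List (List ℕ) := [[nat_lit 0, nat_lit 0],
  [nat_lit 1, nat_lit 1],
  [nat_lit 2, nat_lit 2],
  [nat_lit 3, nat_lit 3],
  [nat_lit 4, nat_lit 4],
  [nat_lit 5, nat_lit 5],
  [nat_lit 0, nat_lit 1, nat_lit 0, nat_lit 1, nat_lit 0, nat_lit 1],
  [nat_lit 0, nat_lit 2, nat_lit 0, nat_lit 2],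
  [nat_lit 1, nat_lit 2, nat_lit 1, nat_lit 2, nat_lit 1, nat_lit 2, nat_lit 1, nat_lit 2],
  [nat_lit 0, nat_lit 3, nat_lit 0, nat_lit 3],
  [nat_lit 2, nat_lit 3, nat_lit 2, nat_lit 3],
  [nat_lit 1, nat_lit 3, nat_lit 1, nat_lit 3, nat_lit 1, nat_lit 3, nat_lit 1, nat_lit 3],
  [nat_lit 1, nat_lit 2, nat_lit 3, nat_lit 1, nat_lit 2, nat_lit 3, nat_lit 1, nat_lit 2, nat_lit 3, nat_lit 1, nat_lit 3, nat_lit 2],
  [nat_lit 0, nat_lit 1, nat_lit 0, nat_lit 3, nat_lit 1, nat_lit 2, nat_lit 1, nat_lit 0, nat_lit 3, nat_lit 1, nat_lit 0, nat_lit 3, nat_lit 1, nat_lit 2, nat_lit 1, nat_lit 3],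
  [nat_lit 0, nat_lit 4, nat_lit 0, nat_lit 4],
  [nat_lit 1, nat_lit 4, nat_lit 1, nat_lit 4],
  [nat_lit 2, nat_lit 4, nat_lit 2, nat_lit 4],
  [nat_lit 1, nat_lit 3, nat_lit 4, nat_lit 3, nat_lit 1, nat_lit 3, nat_lit 4, nat_lit 3, nat_lit 1, nat_lit 3, nat_lit 4, nat_lit 3],
  [nat_lit 1, nat_lit 2, nat_lit 1, nat_lit 2, nat_lit 3, nat_lit 1, nat_lit 2, nat_lit 1, nat_lit 4, nat_lit 3, nat_lit 1, nat_lit 2, nat_lit 1, nat_lit 4, nat_lit 3, nat_lit 4, nat_lit 1, nat_lit 2, nat_lit 1, nat_lit 3, nat_lit 4],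
  [nat_lit 0, nat_lit 1, nat_lit 0, nat_lit 3, nat_lit 1, nat_lit 0, nat_lit 4, nat_lit 3, nat_lit 1, nat_lit 2, nat_lit 4, nat_lit 3, nat_lit 1, nat_lit 0, nat_lit 2, nat_lit 4, nat_lit 1, nat_lit 3, nat_lit 4, nat_lit 2, nat_lit 1, nat_lit 3, nat_lit 4],
  [nat_lit 3, nat_lit 5, nat_lit 3, nat_lit 5],
  [nat_lit 0, nat_lit 5, nat_lit 0, nat_lit 5],
  [nat_lit 1, nat_lit 5, nat_lit 1, nat_lit 5],
  [nat_lit 3, nat_lit 4, nat_lit 5, nat_lit 4, nat_lit 3, nat_lit 4, nat_lit 5, nat_lit 4, nat_lit 3, nat_lit 4, nat_lit 5, nat_lit 4],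
  [nat_lit 1, nat_lit 2, nat_lit 1, nat_lit 3, nat_lit 1, nat_lit 3, nat_lit 5, nat_lit 2, nat_lit 1, nat_lit 5, nat_lit 3]]
noncomputable def Pd : List ℕ := [nat_lit 0x3ef7cd3ae78df6b3ba32c67bee7f5aeaa73c1a6588d75a0b5075c6e69648a134c2ca45e3ce5544d21481c62440c2040,
  nat_lit 0x3eefcf73e78dedd74ea4c70867d9daea668ba69724e2bd77deb1c6cfa588165548d228868e1c62d125034c0c4142040,
  nat_lit 0x3dfbad7ccb6df8eec9b9c65bee7b4adda5a673c158d44e042da9c3e89cd30b92284945f6c76175854843862880c2040,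
  nat_lit 0x3cebeefddb2bf9d74cf88e2dee7acadba685e6515c704a042d3d1a9a30d9ca92526171f7486191564ce1062c7083040,
  nat_lit 0x3ef79ef2f38df6d7493ac70beeb6c72aa589d59738d28517de76b38d6682969894e28101db6852d75083c3304181080,
  nat_lit 0x3cebecfddf1e6fd68ee3e22da086caeaa745e6953cb0b6e59274e6da64b9df25491e20a3dc14c6105510c63421c4001]
noncomputable def P (k u : ℕ) : ℕ := Nat.land (Nat.shiftRight (nth (nat_lit 0) Pd k) (Nat.mul u (nat_lit 6))) (nat_lit 63)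
noncomputable def T0d : List ℕ := [nat_lit 0xc7ec3dcbcd34d7acf9c78b37df6f2cd7bda8d32cb1de7b6fd6eedff75d6bd6a429df3db0e5ae59e18ce3d57c56da0eadf10d9dd9cd9be26e25e64d22c21ecdeccd8bccadd1f5edcfdcee95e94dd3c92f05e08e07e06f49e44e43e82ec1f40,
  nat_lit 0x4fe53bbbc57de73bf9d38a77f2dd75db4e3aee4cf13f0f212a7f76f1dc2b5eaf19de826ed26465eb2f13a62f6fb57e1fddef6cc5ccdbe4ff69e18ba0b96d55dd4f63a92bcaf08e1ac8eec7ec6dcbc11d89f50e8de8cf03e44f45e82ec1f40,
  nat_lit 0xe7de3eefa5b5ebcf328f67b79385fb62cce6f796f1e6576f0eef1e674a6be5d129d5ae59cb3e30c55723ed4ed3b20f10f6de2aa9cecfd28e27dcdeccc0bc24ea2ea1f09ad1f5fe9bf07d98e97bd6f05f52f04f4edc6f4af48e03e42e81f40,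
  nat_lit 0xf3cf3af7eabbf7d876ef2f2f8b9975a74af3eb8f23f22f7722e99e9ac56bf1b169a28f179a6f14ed5f71f70f121e091096df0fdd1f6a9daf0cecdf67f0aea4f65f09f61d9c8dff5de48e98f59f05f56f53e0eec4186f4be87f02f43ec1f40,
  nat_lit 0x4be4fdf395bbf32f7c9784378b69355f4f24f7a4b1070b2f06e86d96cf1c8ea129f180a7f15025f73ae3f12b61f1179f81e91df6bf0ef0d0d9f68f0ab96f66f09b13f62f607d0f07f5bf5af05e8bf57f54788f4ff03f4c744f46f01f42f40,
  nat_lit 0x4bc4ba47ef334fd7f7f318399af675f28f7bf23f78362976f20a216ac02b5aad69f742d76a6de5f13f723b09edf6ea96ad26ddf0e55b6dad99f0b327a5ff09e14f64b1ef08b4a70ff5cf05e4cf58b90f55f51f03ec6f4df02f47f44f00f41]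
noncomputable def T0 (k u : ℕ) : ℕ := Nat.land (Nat.shiftRight (nth (nat_lit 0) T0d k) (Nat.mul u (nat_lit 12))) (nat_lit 4095)
noncomputable def I0d : List ℕ := [nat_lit 0x241054325030124539612510120322100231002007a01361400300431632178,
  nat_lit 0x801a156607304390420150101900120572381261d3c2300014e3a120003214b,
  nat_lit 0x10400007650521118073173100384ba02014006450000320000002023221369,
  nat_lit 0x13102094470001b367063040211034003150210010100150101102a100128,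
  nat_lit 0x230401682420194333502502021304022310031021021140110611310121017,
  nat_lit 0x500030043201010002365310240190150404320200212008103171106101101]
noncomputable def I0 (k u : ℕ) : ℕ := Nat.land (Nat.shiftRight (nth (nat_lit 0) I0d k) (Nat.mul u (nat_lit 4))) (nat_lit 15)
noncomputable def D0d : ℕ := nat_lit 0x5aebf5a9bcc25d2b8ec3e10f56e35daacf63b156caf562952e9446a08f677399c0de6a31180ba592c1489647200fc763a1c8e06a31170b04622108803c1a0b8582611078280a00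
noncomputable def D0 (u : ℕ) : ℕ := Nat.land (Nat.shiftRight D0d (Nat.mul u (nat_lit 9))) (nat_lit 511)
noncomputable def RL0 : List (List Rule) := [[.rel (nat_lit 0) (nat_lit 0) [nat_lit 0], .rel (nat_lit 28) (nat_lit 2) [nat_lit 4, nat_lit 0, nat_lit 4], .rel (nat_lit 18) (nat_lit 2) [nat_lit 3, nat_lit 0, nat_lit 3], .rel (nat_lit 42) (nat_lit 2) [nat_lit 5, nat_lit 0, nat_lit 5], .rel (nat_lit 14) (nat_lit 2) [nat_lit 2, nat_lit 0, nat_lit 2], .rel (nat_lit 12) (nat_lit 4) [nat_lit 1, nat_lit 0, nat_lit 1, nat_lit 0, nat_lit 1], .defn, .rel (nat_lit 42) (nat_lit 0) [nat_lit 5, nat_lit 0, nat_lit 5], .sub (nat_lit 0) [] [], .rel (nat_lit 14) (nat_lit 0) [nat_lit 2, nat_lit 0, nat_lit 2], .rel (nat_lit 28) (nat_lit 0) [nat_lit 4, nat_lit 0, nat_lit 4]],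
  [.rel (nat_lit 2) (nat_lit 0) [nat_lit 1], .rel (nat_lit 30) (nat_lit 2) [nat_lit 4, nat_lit 1, nat_lit 4], .defn, .rel (nat_lit 44) (nat_lit 2) [nat_lit 5, nat_lit 1, nat_lit 5], .rel (nat_lit 44) (nat_lit 0) [nat_lit 5, nat_lit 1, nat_lit 5], .rel (nat_lit 16) (nat_lit 4) [nat_lit 2, nat_lit 1, nat_lit 2, nat_lit 1, nat_lit 2, nat_lit 1, nat_lit 2], .rel (nat_lit 22) (nat_lit 4) [nat_lit 3, nat_lit 1, nat_lit 3, nat_lit 1, nat_lit 3, nat_lit 1, nat_lit 3], .rel (nat_lit 12) (nat_lit 3) [nat_lit 0, nat_lit 1, nat_lit 0, nat_lit 1, nat_lit 0], .rel (nat_lit 16) (nat_lit 6) [nat_lit 2, nat_lit 1, nat_lit 2, nat_lit 1, nat_lit 2, nat_lit 1, nat_lit 2], .rel (nat_lit 34) (nat_lit 8) [nat_lit 3, nat_lit 4, nat_lit 3, nat_lit 1, nat_lit 3, nat_lit 4, nat_lit 3, nat_lit 1, nat_lit 3, nat_lit 4, nat_lit 3], .rel (nat_lit 48) (nat_lit 2) [nat_lit 3, nat_lit 1, nat_lit 3, nat_lit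 5, nat_lit 2, nat_lit 1, nat_lit 5, nat_lit 3, nat_lit 1, nat_lit 2], .sub (nat_lit 2) [] [], .rel (nat_lit 12) (nat_lit 1) [nat_lit 0, nat_lit 1, nat_lit 0, nat_lit 1, nat_lit 0], .rel (nat_lit 22) (nat_lit 2) [nat_lit 3, nat_lit 1, nat_lit 3, nat_lit 1, nat_lit 3, nat_lit 1, nat_lit 3], .rel (nat_lit 30) (nat_lit 0) [nat_lit 4, nat_lit 1, nat_lit 4]],
  [.rel (nat_lit 4) (nat_lit 0) [nat_lit 2], .rel (nat_lit 20) (nat_lit 2) [nat_lit 3, nat_lit 2, nat_lit 3], .defn, .rel (nat_lit 32) (nat_lit 2) [nat_lit 4, nat_lit 2, nat_lit 4], .rel (nat_lit 32) (nat_lit 0) [nat_lit 4, nat_lit 2, nat_lit 4], .rel (nat_lit 14) (nat_lit 3) [nat_lit 0, nat_lit 2, nat_lit 0], .rel (nat_lit 48) (nat_lit 1) [nat_lit 1, nat_lit 3, nat_lit 1, nat_lit 3, nat_lit 5, nat_lit 2, nat_lit 1, nat_lit 5, nat_lit 3, nat_lit 1], .rel (nat_lit 48) (nat_lit 7) [nat_lit 1, nat_lit 5, nat_lit 3, nat_lit 1,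 nat_lit 2, nat_lit 1, nat_lit 3, nat_lit 1, nat_lit 3, nat_lit 5], .rel (nat_lit 16) (nat_lit 5) [nat_lit 1, nat_lit 2, nat_lit 1, nat_lit 2, nat_lit 1, nat_lit 2, nat_lit 1], .sub (nat_lit 4) [] [], .rel (nat_lit 16) (nat_lit 7) [nat_lit 1, nat_lit 2, nat_lit 1, nat_lit 2, nat_lit 1, nat_lit 2, nat_lit 1], .rel (nat_lit 20) (nat_lit 0) [nat_lit 3, nat_lit 2, nat_lit 3]],
  [.rel (nat_lit 6) (nat_lit 0) [nat_lit 3], .defn, .rel (nat_lit 40) (nat_lit 0) [nat_lit 5, nat_lit 3, nat_lit 5], .rel (nat_lit 40) (nat_lit 2) [nat_lit 5, nat_lit 3, nat_lit 5], .rel (nat_lit 18) (nat_lit 3) [nat_lit 0, nat_lit 3, nat_lit 0], .rel (nat_lit 20) (nat_lit 3) [nat_lit 2, nat_lit 3, nat_lit 2], .rel (nat_lit 22) (nat_lit 5) [nat_lit 1, nat_lit 3, nat_lit 1, nat_lit 3, nat_lit 1, nat_lit 3, nat_lit 1], .rel (nat_lit 46) (nat_lit 8) [nat_lit 4, nat_lit 5, nat_lit 4, nat_lit 3, nat_lit 4, nat_lit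 5, nat_lit 4, nat_lit 3, nat_lit 4, nat_lit 5, nat_lit 4], .sub (nat_lit 6) [] [], .rel (nat_lit 20) (nat_lit 1) [nat_lit 2, nat_lit 3, nat_lit 2], .rel (nat_lit 48) (nat_lit 3) [nat_lit 1, nat_lit 3, nat_lit 5, nat_lit 2, nat_lit 1, nat_lit 5, nat_lit 3, nat_lit 1, nat_lit 2, nat_lit 1], .rel (nat_lit 48) (nat_lit 5) [nat_lit 5, nat_lit 2, nat_lit 1, nat_lit 5, nat_lit 3, nat_lit 1, nat_lit 2, nat_lit 1, nat_lit 3, nat_lit 1]],
  [.rel (nat_lit 8) (nat_lit 0) [nat_lit 4], .defn, .rel (nat_lit 32) (nat_lit 3) [nat_lit 2, nat_lit 4, nat_lit 2], .rel (nat_lit 30) (nat_lit 3) [nat_lit 1, nat_lit 4, nat_lit 1], .rel (nat_lit 28) (nat_lit 3) [nat_lit 0, nat_lit 4, nat_lit 0], .rel (nat_lit 34) (nat_lit 2) [nat_lit 3, nat_lit 1, nat_lit 3, nat_lit 4, nat_lit 3, nat_lit 1, nat_lit 3, nat_lit 4, nat_lit 3, nat_lit 1, nat_lit 3], .rel (nat_lit 34) (nat_lit 10) [nat_lit 3, nat_lit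 1, nat_lit 3, nat_lit 4, nat_lit 3, nat_lit 1, nat_lit 3, nat_lit 4, nat_lit 3, nat_lit 1, nat_lit 3], .sub (nat_lit 8) [] [], .rel (nat_lit 46) (nat_lit 7) [nat_lit 3, nat_lit 4, nat_lit 5, nat_lit 4, nat_lit 3, nat_lit 4, nat_lit 5, nat_lit 4, nat_lit 3, nat_lit 4, nat_lit 5], .rel (nat_lit 46) (nat_lit 9) [nat_lit 5, nat_lit 4, nat_lit 3, nat_lit 4, nat_lit 5, nat_lit 4, nat_lit 3, nat_lit 4, nat_lit 5, nat_lit 4, nat_lit 3]],
  [.rel (nat_lit 10) (nat_lit 0) [nat_lit 5], .defn, .rel (nat_lit 42) (nat_lit 3) [nat_lit 0, nat_lit 5, nat_lit 0], .rel (nat_lit 44) (nat_lit 3) [nat_lit 1, nat_lit 5, nat_lit 1], .rel (nat_lit 40) (nat_lit 3) [nat_lit 3, nat_lit 5, nat_lit 3], .rel (nat_lit 48) (nat_lit 9) [nat_lit 3, nat_lit 1, nat_lit 2, nat_lit 1, nat_lit 3, nat_lit 1, nat_lit 3, nat_lit 5, nat_lit 2, nat_lit 1], .rel (nat_lit 46) (nat_lit 10) [nat_lit 4, nat_lit 3, nat_lit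 4, nat_lit 5, nat_lit 4, nat_lit 3, nat_lit 4, nat_lit 5, nat_lit 4, nat_lit 3, nat_lit 4], .rel (nat_lit 44) (nat_lit 1) [nat_lit 1, nat_lit 5, nat_lit 1], .rel (nat_lit 46) (nat_lit 6) [nat_lit 4, nat_lit 3, nat_lit 4, nat_lit 5, nat_lit 4, nat_lit 3, nat_lit 4, nat_lit 5, nat_lit 4, nat_lit 3, nat_lit 4], .rel (nat_lit 48) (nat_lit 6) [nat_lit 2, nat_lit 1, nat_lit 5, nat_lit 3, nat_lit 1, nat_lit 2, nat_lit 1, nat_lit 3, nat_lit 1, nat_lit 3]]]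
noncomputable def c0 : TCert := ⟨63, 6, 63, T0, I0, D0, [[nat_lit 0],
  [nat_lit 1],
  [nat_lit 2],
  [nat_lit 3],
  [nat_lit 4]], RL0⟩
noncomputable def Pt0 (u : ℕ) : ℕ := u
noncomputable def Q0 (u : ℕ) : ℕ := u
noncomputable def l0 : Lev := ⟨63, 6, D0, Pt0, Q0⟩
noncomputable def T1d : List ℕ := [nat_lit 0x6f47c26d7ab59d815eb93d4b4c3d92a3a0dbce717c0ccd21c791b2b6aa29d8f04e1722d0780,
  nat_lit 0x577769eeba26770dbf9cd3a940cf6a44798e5f359b766baf924a744c9f8cb1728d8b83d0780,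
  nat_lit 0x1f5dca6c5ac4c987df0fbd6b4be472d2f4abdb48d1ecccc730d972ecb763e2704e1b22d0780,
  nat_lit 0xde2bc66f72dc79d65f6eb576cdaf9ae6769da396d9b94e4f65e438fd8f8de29a4e1f61e0b80,
  nat_lit 0x1f65cdd01a765b87de36db39b7cd92da5d083f66c3795d95aae4763d1f8ee2f62e2384d8381]
noncomputable def T1 (k u : ℕ) : ℕ := Nat.land (Nat.shiftRight (nth (nat_lit 0) T1d k) (Nat.mul u (nat_lit 10))) (nat_lit 1023)
noncomputable def I1d : List ℕ := [nat_lit 0x123182902112110003473000036145,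
  nat_lit 0x804290013750411020512321400136,
  nat_lit 0x153119a18105260263000000434127,
  nat_lit 0x26001205001100101101101141013,
  nat_lit 0x560532220142043031031071101101]
noncomputable def I1 (k u : ℕ) : ℕ := Nat.land (Nat.shiftRight (nth (nat_lit 0) I1d k) (Nat.mul u (nat_lit 4))) (nat_lit 15)
noncomputable def D1d : ℕ := nat_lit 0x3defd176c51992603f74cd8b0568909f3a70d93244478e1620200
noncomputable def D1 (u : ℕ) : ℕ := Nat.land (Nat.shiftRight D1d (Nat.mul u (nat_lit 7))) (nat_lit 127)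
noncomputable def RL1 : List (List Rule) := [[.rel (nat_lit 0) (nat_lit 0) [nat_lit 0], .rel (nat_lit 18) (nat_lit 2) [nat_lit 3, nat_lit 0, nat_lit 3], .rel (nat_lit 12) (nat_lit 4) [nat_lit 1, nat_lit 0, nat_lit 1, nat_lit 0, nat_lit 1], .rel (nat_lit 28) (nat_lit 2) [nat_lit 4, nat_lit 0, nat_lit 4], .rel (nat_lit 28) (nat_lit 0) [nat_lit 4, nat_lit 0, nat_lit 4], .sub (nat_lit 0) [] [], .defn, .rel (nat_lit 14) (nat_lit 0) [nat_lit 2, nat_lit 0, nat_lit 2], .rel (nat_lit 14) (nat_lit 2) [nat_lit 2, nat_lit 0, nat_lit 2], .rel (nat_lit 26) (nat_lit 0) [nat_lit 1, nat_lit 0, nat_lit 3, nat_lit 1, nat_lit 2, nat_lit 1, nat_lit 0, nat_lit 3, nat_lit 1, nat_lit 0, nat_lit 3, nat_lit 1, nat_lit 2, nat_lit 1, nat_lit 3]],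
  [.rel (nat_lit 2) (nat_lit 0) [nat_lit 1], .defn, .rel (nat_lit 22) (nat_lit 4) [nat_lit 3, nat_lit 1, nat_lit 3, nat_lit 1, nat_lit 3, nat_lit 1, nat_lit 3], .rel (nat_lit 30) (nat_lit 0) [nat_lit 4, nat_lit 1, nat_lit 4], .rel (nat_lit 30) (nat_lit 2) [nat_lit 4, nat_lit 1, nat_lit 4], .rel (nat_lit 12) (nat_lit 3) [nat_lit 0, nat_lit 1, nat_lit 0, nat_lit 1, nat_lit 0], .sub (nat_lit 2) [] [], .rel (nat_lit 24) (nat_lit 0) [nat_lit 2, nat_lit 3, nat_lit 1, nat_lit 2, nat_lit 3, nat_lit 1, nat_lit 2, nat_lit 3, nat_lit 1, nat_lit 3, nat_lit 2], .rel (nat_lit 26) (nat_lit 9) [nat_lit 0, nat_lit 3, nat_lit 1, nat_lit 2, nat_lit 1, nat_lit 3, nat_lit 0, nat_lit 1, nat_lit 0, nat_lit 3, nat_lit 1, nat_lit 2, nat_lit 1, nat_lit 0, nat_lit 3], .rel (nat_lit 38) (nat_lit 8) [nat_lit 2, nat_lit 4, nat_lit 3, nat_lit 1, nat_lit 0, nat_lit 2, nat_lit 4, nat_lit 1, nat_lit 3, nat_lit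 4, nat_lit 2, nat_lit 1, nat_lit 3, nat_lit 4, nat_lit 0, nat_lit 1, nat_lit 0, nat_lit 3, nat_lit 1, nat_lit 0, nat_lit 4, nat_lit 3]],
  [.rel (nat_lit 4) (nat_lit 0) [nat_lit 2], .rel (nat_lit 20) (nat_lit 2) [nat_lit 3, nat_lit 2, nat_lit 3], .rel (nat_lit 32) (nat_lit 0) [nat_lit 4, nat_lit 2, nat_lit 4], .rel (nat_lit 32) (nat_lit 2) [nat_lit 4, nat_lit 2, nat_lit 4], .defn, .rel (nat_lit 16) (nat_lit 5) [nat_lit 1, nat_lit 2, nat_lit 1, nat_lit 2, nat_lit 1, nat_lit 2, nat_lit 1], .rel (nat_lit 20) (nat_lit 0) [nat_lit 3, nat_lit 2, nat_lit 3], .sub (nat_lit 4) [] [], .rel (nat_lit 16) (nat_lit 3) [nat_lit 1, nat_lit 2, nat_lit 1, nat_lit 2, nat_lit 1, nat_lit 2, nat_lit 1], .rel (nat_lit 26) (nat_lit 13) [nat_lit 1, nat_lit 3, nat_lit 0, nat_lit 1, nat_lit 0, nat_lit 3, nat_lit 1, nat_lit 2, nat_lit 1, nat_lit 0, nat_lit 3, nat_lit 1, nat_lit 0, nat_lit 3, nat_lit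 1], .rel (nat_lit 36) (nat_lit 1) [nat_lit 1, nat_lit 2, nat_lit 3, nat_lit 1, nat_lit 2, nat_lit 1, nat_lit 4, nat_lit 3, nat_lit 1, nat_lit 2, nat_lit 1, nat_lit 4, nat_lit 3, nat_lit 4, nat_lit 1, nat_lit 2, nat_lit 1, nat_lit 3, nat_lit 4, nat_lit 1]],
  [.rel (nat_lit 6) (nat_lit 0) [nat_lit 3], .defn, .rel (nat_lit 22) (nat_lit 5) [nat_lit 1, nat_lit 3, nat_lit 1, nat_lit 3, nat_lit 1, nat_lit 3, nat_lit 1], .sub (nat_lit 6) [] [], .rel (nat_lit 24) (nat_lit 5) [nat_lit 1, nat_lit 2, nat_lit 3, nat_lit 1, nat_lit 3, nat_lit 2, nat_lit 1, nat_lit 2, nat_lit 3, nat_lit 1, nat_lit 2], .rel (nat_lit 36) (nat_lit 4) [nat_lit 1, nat_lit 2, nat_lit 1, nat_lit 4, nat_lit 3, nat_lit 1, nat_lit 2, nat_lit 1, nat_lit 4, nat_lit 3, nat_lit 4, nat_lit 1, nat_lit 2, nat_lit 1, nat_lit 3, nat_lit 4, nat_lit 1, nat_lit 2, nat_lit 1, nat_lit 2], .rel (nat_lit 36) (nat_lit 9) [nat_lit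 1, nat_lit 2, nat_lit 1, nat_lit 4, nat_lit 3, nat_lit 4, nat_lit 1, nat_lit 2, nat_lit 1, nat_lit 3, nat_lit 4, nat_lit 1, nat_lit 2, nat_lit 1, nat_lit 2, nat_lit 3, nat_lit 1, nat_lit 2, nat_lit 1, nat_lit 4]],
  [.rel (nat_lit 8) (nat_lit 0) [nat_lit 4], .defn, .rel (nat_lit 30) (nat_lit 3) [nat_lit 1, nat_lit 4, nat_lit 1], .rel (nat_lit 32) (nat_lit 3) [nat_lit 2, nat_lit 4, nat_lit 2], .rel (nat_lit 28) (nat_lit 3) [nat_lit 0, nat_lit 4, nat_lit 0], .rel (nat_lit 34) (nat_lit 6) [nat_lit 3, nat_lit 1, nat_lit 3, nat_lit 4, nat_lit 3, nat_lit 1, nat_lit 3, nat_lit 4, nat_lit 3, nat_lit 1, nat_lit 3], .rel (nat_lit 34) (nat_lit 2) [nat_lit 3, nat_lit 1, nat_lit 3, nat_lit 4, nat_lit 3, nat_lit 1, nat_lit 3, nat_lit 4, nat_lit 3, nat_lit 1, nat_lit 3], .rel (nat_lit 34) (nat_lit 10) [nat_lit 3, nat_lit 1, nat_lit 3, nat_lit 4, nat_lit 3, nat_lit 1, nat_lit 3, nat_lit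 4, nat_lit 3, nat_lit 1, nat_lit 3]]]
noncomputable def c1 : TCert := ⟨30, 5, 31, T1, I1, D1, [[nat_lit 0],
  [nat_lit 1],
  [nat_lit 2],
  [nat_lit 3]], RL1⟩
noncomputable def Pt1d : ℕ := nat_lit 0xc69077963b99182c2f5139cc2c38a12575854a029172b
noncomputable def Pt1 (u : ℕ) : ℕ := Nat.land (Nat.shiftRight Pt1d (Nat.mul u (nat_lit 6))) (nat_lit 63)
noncomputable def Q1d : ℕ := nat_lit 0xd0000003b395c000038078320c2d4400001002c041c11814400000e68d20054c065360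
noncomputable def Q1 (u : ℕ) : ℕ := Nat.land (Nat.shiftRight Q1d (Nat.mul u (nat_lit 5))) (nat_lit 31)
noncomputable def l1 : Lev := ⟨30, 5, D1, Pt1, Q1⟩
noncomputable def T2d : List ℕ := [nat_lit 0x7fae8d3cbbb9aa48d594c786e2f3d1f0,
  nat_lit 0x6fbeeaace7fd99e4fb56d5f8c3e1f2f0,
  nat_lit 0x1f0e2dbc1bd7d5c8cae3c9e2f6f4d1f0,
  nat_lit 0xedebffe8fee6e4fce3fae2f9f7f5e0f1]
noncomputable def T2 (k u : ℕ) : ℕ := Nat.land (Nat.shiftRight (nth (nat_lit 0) T2d k) (Nat.mul u (nat_lit 8))) (nat_lit 255)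
noncomputable def I2d : List ℕ := [nat_lit 0x25158264015c,
  nat_lit 0xe860502a980b,
  nat_lit 0x4b284c0006cd,
  nat_lit 0x8201041241]
noncomputable def I2 (k u : ℕ) : ℕ := Nat.land (Nat.shiftRight (nth (nat_lit 0) I2d k) (Nat.mul u (nat_lit 3))) (nat_lit 7)
noncomputable def D2d : ℕ := nat_lit 0xdefa6375b4d13ce2ca2050c0
noncomputable def D2 (u : ℕ) : ℕ := Nat.land (Nat.shiftRight D2d (Nat.mul u (nat_lit 6))) (nat_lit 63)
noncomputable def RL2 : List (List Rule) := [[.rel (nat_lit 0) (nat_lit 0) [nat_lit 0], .rel (nat_lit 18) (nat_lit 2) [nat_lit 3, nat_lit 0, nat_lit 3], .rel (nat_lit 12) (nat_lit 4) [nat_lit 1, nat_lit 0, nat_lit 1, nat_lit 0, nat_lit 1], .rel (nat_lit 18) (nat_lit 0) [nat_lit 3, nat_lit 0, nat_lit 3], .sub (nat_lit 0) [] [], .defn, .rel (nat_lit 14) (nat_lit 2) [nat_lit 2, nat_lit 0, nat_lit 2]],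
  [.rel (nat_lit 2) (nat_lit 0) [nat_lit 1], .defn, .rel (nat_lit 22) (nat_lit 4) [nat_lit 3, nat_lit 1, nat_lit 3, nat_lit 1, nat_lit 3, nat_lit 1, nat_lit 3], .sub (nat_lit 2) [] [], .rel (nat_lit 12) (nat_lit 3) [nat_lit 0, nat_lit 1, nat_lit 0, nat_lit 1, nat_lit 0], .rel (nat_lit 22) (nat_lit 0) [nat_lit 3, nat_lit 1, nat_lit 3, nat_lit 1, nat_lit 3, nat_lit 1, nat_lit 3], .rel (nat_lit 24) (nat_lit 3) [nat_lit 2, nat_lit 3, nat_lit 1, nat_lit 2, nat_lit 3, nat_lit 1, nat_lit 3, nat_lit 2, nat_lit 1, nat_lit 2, nat_lit 3], .rel (nat_lit 26) (nat_lit 9) [nat_lit 0, nat_lit 3, nat_lit 1, nat_lit 2, nat_lit 1, nat_lit 3, nat_lit 0, nat_lit 1, nat_lit 0, nat_lit 3, nat_lit 1, nat_lit 2, nat_lit 1, nat_lit 0, nat_lit 3]],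
  [.rel (nat_lit 4) (nat_lit 0) [nat_lit 2], .rel (nat_lit 20) (nat_lit 0) [nat_lit 3, nat_lit 2, nat_lit 3], .rel (nat_lit 20) (nat_lit 2) [nat_lit 3, nat_lit 2, nat_lit 3], .defn, .rel (nat_lit 16) (nat_lit 5) [nat_lit 1, nat_lit 2, nat_lit 1, nat_lit 2, nat_lit 1, nat_lit 2, nat_lit 1], .sub (nat_lit 4) [] [], .rel (nat_lit 26) (nat_lit 13) [nat_lit 1, nat_lit 3, nat_lit 0, nat_lit 1, nat_lit 0, nat_lit 3, nat_lit 1, nat_lit 2, nat_lit 1, nat_lit 0, nat_lit 3, nat_lit 1, nat_lit 0, nat_lit 3, nat_lit 1]],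
  [.rel (nat_lit 6) (nat_lit 0) [nat_lit 3], .defn]]
noncomputable def c2 : TCert := ⟨16, 4, 15, T2, I2, D2, [[nat_lit 0],
  [nat_lit 1],
  [nat_lit 2]], RL2⟩
noncomputable def Pt2d : ℕ := nat_lit 0xdf1bdc8e15914d22ca2450c2
noncomputable def Pt2 (u : ℕ) : ℕ := Nat.land (Nat.shiftRight Pt2d (Nat.mul u (nat_lit 6))) (nat_lit 63)
noncomputable def Q2d : ℕ := nat_lit 0xf00000e0d00000000000b0a0000c0000090076800000543000201000
noncomputable def Q2 (u : ℕ) : ℕ := Nat.land (Nat.shiftRight Q2d (Nat.mul u (nat_lit 4))) (nat_lit 15)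
noncomputable def l2 : Lev := ⟨16, 4, D2, Pt2, Q2⟩
noncomputable def T3d : List ℕ := [nat_lit 0x1ce7158ab668,
  nat_lit 0x3e5b9c4e1aa8,
  nat_lit 0x9af8e2b6c829]
noncomputable def T3 (k u : ℕ) : ℕ := Nat.land (Nat.shiftRight (nth (nat_lit 0) T3d k) (Nat.mul u (nat_lit 6))) (nat_lit 63)
noncomputable def I3d : List ℕ := [nat_lit 0xb080ca,
  nat_lit 0xa0c60a,
  nat_lit 0x40241]
noncomputable def I3 (k u : ℕ) : ℕ := Nat.land (Nat.shiftRight (nth (nat_lit 0) I3d k) (Nat.mul u (nat_lit 3))) (nat_lit 7)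
noncomputable def D3d : ℕ := nat_lit 0xa416831040
noncomputable def D3 (u : ℕ) : ℕ := Nat.land (Nat.shiftRight D3d (Nat.mul u (nat_lit 5))) (nat_lit 31)
noncomputable def RL3 : List (List Rule) := [[.rel (nat_lit 0) (nat_lit 0) [nat_lit 0], .rel (nat_lit 14) (nat_lit 0) [nat_lit 2, nat_lit 0, nat_lit 2], .sub (nat_lit 0) [] [], .defn, .rel (nat_lit 12) (nat_lit 4) [nat_lit 1, nat_lit 0, nat_lit 1, nat_lit 0, nat_lit 1], .rel (nat_lit 14) (nat_lit 2) [nat_lit 2, nat_lit 0, nat_lit 2]],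
  [.rel (nat_lit 2) (nat_lit 0) [nat_lit 1], .defn, .sub (nat_lit 2) [] [], .rel (nat_lit 12) (nat_lit 3) [nat_lit 0, nat_lit 1, nat_lit 0, nat_lit 1, nat_lit 0], .rel (nat_lit 16) (nat_lit 0) [nat_lit 2, nat_lit 1, nat_lit 2, nat_lit 1, nat_lit 2, nat_lit 1, nat_lit 2], .rel (nat_lit 16) (nat_lit 4) [nat_lit 2, nat_lit 1, nat_lit 2, nat_lit 1, nat_lit 2, nat_lit 1, nat_lit 2]],
  [.rel (nat_lit 4) (nat_lit 0) [nat_lit 2], .defn]]
noncomputable def c3 : TCert := ⟨8, 3, 7, T3, I3, D3, [[nat_lit 0],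
  [nat_lit 1]], RL3⟩
noncomputable def Pt3d : ℕ := nat_lit 0xa9db35d3bf7e
noncomputable def Pt3 (u : ℕ) : ℕ := Nat.land (Nat.shiftRight Pt3d (Nat.mul u (nat_lit 6))) (nat_lit 63)
noncomputable def Q3d : ℕ := nat_lit 0x84000230000051c0000000030000000000000000000000
noncomputable def Q3 (u : ℕ) : ℕ := Nat.land (Nat.shiftRight Q3d (Nat.mul u (nat_lit 3))) (nat_lit 7)
noncomputable def l3 : Lev := ⟨8, 3, D3, Pt3, Q3⟩
noncomputable def T4d : List ℕ := [nat_lit 0x5a8,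
  nat_lit 0x249]
noncomputable def T4 (k u : ℕ) : ℕ := Nat.land (Nat.shiftRight (nth (nat_lit 0) T4d k) (Nat.mul u (nat_lit 4))) (nat_lit 15)
noncomputable def I4d : List ℕ := [nat_lit 9,
  nat_lit 0x21]
noncomputable def I4 (k u : ℕ) : ℕ := Nat.land (Nat.shiftRight (nth (nat_lit 0) I4d k) (Nat.mul u (nat_lit 2))) (nat_lit 3)
noncomputable def D4d : ℕ := nat_lit 0x24
noncomputable def D4 (u : ℕ) : ℕ := Nat.land (Nat.shiftRight D4d (Nat.mul u (nat_lit 2))) (nat_lit 3)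
noncomputable def RL4 : List (List Rule) := [[.rel (nat_lit 0) (nat_lit 0) [nat_lit 0], .sub (nat_lit 0) [] [], .defn],
  [.rel (nat_lit 2) (nat_lit 0) [nat_lit 1], .defn, .rel (nat_lit 12) (nat_lit 5) [nat_lit 0, nat_lit 1, nat_lit 0, nat_lit 1, nat_lit 0]]]
noncomputable def c4 : TCert := ⟨3, 2, 3, T4, I4, D4, [[nat_lit 0]], RL4⟩
noncomputable def Pt4d : ℕ := nat_lit 0x309ee
noncomputable def Pt4 (u : ℕ) : ℕ := Nat.land (Nat.shiftRight Pt4d (Nat.mul u (nat_lit 6))) (nat_lit 63)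
noncomputable def Q4d : ℕ := nat_lit 0x2000040000000000000000000
noncomputable def Q4 (u : ℕ) : ℕ := Nat.land (Nat.shiftRight Q4d (Nat.mul u (nat_lit 2))) (nat_lit 3)
noncomputable def l4 : Lev := ⟨3, 2, D4, Pt4, Q4⟩
noncomputable def T5d : List ℕ := [nat_lit 3]
noncomputable def T5 (k u : ℕ) : ℕ := Nat.land (Nat.shiftRight (nth (nat_lit 0) T5d k) (Nat.mul u (nat_lit 2))) (nat_lit 3)
noncomputable def I5d : List ℕ := [nat_lit 1]
noncomputable def I5 (k u : ℕ) : ℕ := Nat.land (Nat.shiftRight (nth (nat_lit 0) I5d k) (Nat.mul u (nat_lit 1))) (nat_lit 1)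
noncomputable def D5d : ℕ := nat_lit 0
noncomputable def D5 (u : ℕ) : ℕ := Nat.land (Nat.shiftRight D5d (Nat.mul u (nat_lit 1))) (nat_lit 1)
noncomputable def RL5 : List (List Rule) := [[.rel (nat_lit 0) (nat_lit 0) [nat_lit 0], .defn]]
noncomputable def c5 : TCert := ⟨2, 1, 1, T5, I5, D5, [], RL5⟩
noncomputable def Pt5d : ℕ := nat_lit 0x99a
noncomputable def Pt5 (u : ℕ) : ℕ := Nat.land (Nat.shiftRight Pt5d (Nat.mul u (nat_lit 6))) (nat_lit 63)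
noncomputable def Q5d : ℕ := nat_lit 0x4000000000
noncomputable def Q5 (u : ℕ) : ℕ := Nat.land (Nat.shiftRight Q5d (Nat.mul u (nat_lit 1))) (nat_lit 1)
noncomputable def l5 : Lev := ⟨2, 1, D5, Pt5, Q5⟩
noncomputable def B : List ℕ := [nat_lit 0, nat_lit 43, nat_lit 2, nat_lit 62, nat_lit 46, nat_lit 26]
noncomputable def L : List Lev := [l0, l1, l2, l3, l4, l5]
noncomputable def Rs : List Root := [⟨(nat_lit 1), [[nat_lit 5],
  [nat_lit 5]], [((nat_lit 7), [nat_lit 6]),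
  ((nat_lit 5), [nat_lit 6])]⟩,
  ⟨(nat_lit 4), [[nat_lit 5, nat_lit 4, nat_lit 5],
  [nat_lit 5, nat_lit 4, nat_lit 5]], [((nat_lit 7), [nat_lit 6]),
  ((nat_lit 5), [nat_lit 4, nat_lit 3, nat_lit 4, nat_lit 6, nat_lit 3, nat_lit 4, nat_lit 6, nat_lit 3, nat_lit 4])]⟩]
noncomputable def Fod : ℕ := nat_lit 0x44bde4af21685b3f9a22d108772b895b8ade55c2ad5d64ead7533b1113089274822298fc87c63b21b58ce86b63031798bac593291940c9cc58325191547e64351b28d4c82a3151828bd46642921390ac84881d40e206d03221610b984cc200022068824002000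
noncomputable def Fo (u : ℕ) : ℕ := Nat.land (Nat.shiftRight Fod (Nat.mul u (nat_lit 13))) (nat_lit 8191)
noncomputable def nx : List ℕ := [nat_lit 2, nat_lit 1, nat_lit 5, nat_lit 0, nat_lit 4]
noncomputable def nL : List (List ℕ × ℕ) := [([nat_lit 5, nat_lit 2, nat_lit 1], (nat_lit 6)),
  ([nat_lit 4, nat_lit 3], (nat_lit 6)),
  ([nat_lit 3, nat_lit 4, nat_lit 5], (nat_lit 6)),
  ([], (nat_lit 8)),
  ([nat_lit 3], (nat_lit 8)),
  ([], (nat_lit 4))]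

theorem tc0e_a : allZ2 (entryChk T0 (selR RL0 I0) D0 (nat_lit 63) (nat_lit 63) (nat_lit 6)) (nat_lit 6) (nat_lit 63) = true := by decide +kernel
theorem tc0r : rulesChk Rl c0.Sl RL0 (nat_lit 6) = true := by decide +kernel
theorem ivc : ivChk Rl (nat_lit 6) = true := by decide +kernel
theorem lv0e_0 : allZ (l0.ent P) (nat_lit 0) (nat_lit 62) = true := by decide +kernel
theorem lv0b : Nat.blt (Pt0 (nat_lit 0)) (nat_lit 63) = true ∧ Q0 (Pt0 (nat_lit 0)) = 0 ∧ Pt0 (nat_lit 0) = 0 := by decide +kernel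
theorem sb0 : allL (ltAll (nat_lit 5)) c0.Sl = true ∧ fixLetters P (nat_lit 5) (Pt0 (nat_lit 0)) = true := by decide +kernel
theorem tc1e_a : allZ2 (entryChk T1 (selR RL1 I1) D1 (nat_lit 31) (nat_lit 30) (nat_lit 5)) (nat_lit 5) (nat_lit 30) = true := by decide +kernel
theorem tc1r : rulesChk Rl c1.Sl RL1 (nat_lit 5) = true := by decide +kernel
theorem lv1e_0 : allZ (l1.ent P) (nat_lit 0) (nat_lit 29) = true := by decide +kernel
theorem lv1b : Nat.blt (Pt1 (nat_lit 0)) (nat_lit 63) = true ∧ Q1 (Pt1 (nat_lit 0)) = 0 ∧ Pt1 (nat_lit 0) = 43 := by decide +kernel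
theorem sb1 : allL (ltAll (nat_lit 4)) c1.Sl = true ∧ fixLetters P (nat_lit 4) (Pt1 (nat_lit 0)) = true := by decide +kernel
theorem tc2e_a : allZ2 (entryChk T2 (selR RL2 I2) D2 (nat_lit 15) (nat_lit 16) (nat_lit 4)) (nat_lit 4) (nat_lit 16) = true := by decide +kernel
theorem tc2r : rulesChk Rl c2.Sl RL2 (nat_lit 4) = true := by decide +kernel
theorem lv2e_0 : allZ (l2.ent P) (nat_lit 0) (nat_lit 15) = true := by decide +kernel
theorem lv2b : Nat.blt (Pt2 (nat_lit 0)) (nat_lit 63) = true ∧ Q2 (Pt2 (nat_lit 0)) = 0 ∧ Pt2 (nat_lit 0) = 2 := by decide +kernel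
theorem sb2 : allL (ltAll (nat_lit 3)) c2.Sl = true ∧ fixLetters P (nat_lit 3) (Pt2 (nat_lit 0)) = true := by decide +kernel
theorem tc3e_a : allZ2 (entryChk T3 (selR RL3 I3) D3 (nat_lit 7) (nat_lit 8) (nat_lit 3)) (nat_lit 3) (nat_lit 8) = true := by decide +kernel
theorem tc3r : rulesChk Rl c3.Sl RL3 (nat_lit 3) = true := by decide +kernel
theorem lv3e_0 : allZ (l3.ent P) (nat_lit 0) (nat_lit 7) = true := by decide +kernel
theorem lv3b : Nat.blt (Pt3 (nat_lit 0)) (nat_lit 63) = true ∧ Q3 (Pt3 (nat_lit 0)) = 0 ∧ Pt3 (nat_lit 0) = 62 := by decide +kernel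
theorem sb3 : allL (ltAll (nat_lit 2)) c3.Sl = true ∧ fixLetters P (nat_lit 2) (Pt3 (nat_lit 0)) = true := by decide +kernel
theorem tc4e_a : allZ2 (entryChk T4 (selR RL4 I4) D4 (nat_lit 3) (nat_lit 3) (nat_lit 2)) (nat_lit 2) (nat_lit 3) = true := by decide +kernel
theorem tc4r : rulesChk Rl c4.Sl RL4 (nat_lit 2) = true := by decide +kernel
theorem lv4e_0 : allZ (l4.ent P) (nat_lit 0) (nat_lit 2) = true := by decide +kernel
theorem lv4b : Nat.blt (Pt4 (nat_lit 0)) (nat_lit 63) = true ∧ Q4 (Pt4 (nat_lit 0)) = 0 ∧ Pt4 (nat_lit 0) = 46 := by decide +kernel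
theorem sb4 : allL (ltAll (nat_lit 1)) c4.Sl = true ∧ fixLetters P (nat_lit 1) (Pt4 (nat_lit 0)) = true := by decide +kernel
theorem tc5e_a : allZ2 (entryChk T5 (selR RL5 I5) D5 (nat_lit 1) (nat_lit 2) (nat_lit 1)) (nat_lit 1) (nat_lit 2) = true := by decide +kernel
theorem tc5r : rulesChk Rl c5.Sl RL5 (nat_lit 1) = true := by decide +kernel
theorem lv5e_0 : allZ (l5.ent P) (nat_lit 0) (nat_lit 1) = true := by decide +kernel
theorem lv5b : Nat.blt (Pt5 (nat_lit 0)) (nat_lit 63) = true ∧ Q5 (Pt5 (nat_lit 0)) = 0 ∧ Pt5 (nat_lit 0) = 26 := by decide +kernel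
theorem sb5 : allL (ltAll (nat_lit 0)) c5.Sl = true ∧ fixLetters P (nat_lit 0) (Pt5 (nat_lit 0)) = true := by decide +kernel
theorem Blt : ltAll (nat_lit 63) B = 0 := by decide +kernel
theorem ivk : ivLt Rl (nat_lit 6) = true := by decide +kernel
theorem pe_a : allZ2 (permEnt P (ivOf Rl) (nat_lit 63)) (nat_lit 6) (nat_lit 63) = true := by decide +kernel
theorem rf0 : allL (fixRange P (nat_lit 6) (nat_lit 0) (nat_lit 63)) (Rl.drop (nat_lit 6)) = true := by decide +kernel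
theorem Foe_0 : allZ (forEnt P Fo (nat_lit 5) (nat_lit 511) (nat_lit 63) ((nat_lit 0) :: Rs.map Root.r)) (nat_lit 0) (nat_lit 63) = true := by decide +kernel
theorem rtc : allL (Root.chk P (nat_lit 6) B (nat_lit 5) (nat_lit 0)) Rs = true ∧ fixLetters P (nat_lit 5) (nat_lit 0) = true := by decide +kernel
theorem nc1 : allZ (fun k => force k (nclEnt P Rl (nat_lit 6) B nx nL)) 0 (nat_lit 6) = true := by decide +kernel
theorem nc2 : powL P (nat_lit 6) B nx (nat_lit 7) = 0 := by decide +kernel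

theorem tc0e : ∀ k < 6, ∀ i < 63, (entryChk T0 (selR RL0 I0) D0 (nat_lit 63) (nat_lit 63) (nat_lit 6)) k i = 0 := allZ2_sound tc0e_a
theorem tc0 : c0.OK Rl 6 := ⟨by decide, by decide, by decide, ivc, tc0r, tc0e⟩
theorem lv0e : ∀ i < 62, (l0.ent P) i = 0 := allZ_sound0 lv0e_0
theorem lv0 : l0.OK P 63 := ⟨by decide, by decide, lt_of_blt lv0b.1, lv0b.2.1, lv0e⟩
theorem tc1e : ∀ k < 5, ∀ i < 30, (entryChk T1 (selR RL1 I1) D1 (nat_lit 31) (nat_lit 30) (nat_lit 5)) k i = 0 := allZ2_sound tc1e_a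
theorem tc1 : c1.OK Rl 6 := ⟨by decide, by decide, by decide, ivc, tc1r, tc1e⟩
theorem lv1e : ∀ i < 29, (l1.ent P) i = 0 := allZ_sound0 lv1e_0
theorem lv1 : l1.OK P 63 := ⟨by decide, by decide, lt_of_blt lv1b.1, lv1b.2.1, lv1e⟩
theorem tc2e : ∀ k < 4, ∀ i < 16, (entryChk T2 (selR RL2 I2) D2 (nat_lit 15) (nat_lit 16) (nat_lit 4)) k i = 0 := allZ2_sound tc2e_a
theorem tc2 : c2.OK Rl 6 := ⟨by decide, by decide, by decide, ivc, tc2r, tc2e⟩
theorem lv2e : ∀ i < 15, (l2.ent P) i = 0 := allZ_sound0 lv2e_0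
theorem lv2 : l2.OK P 63 := ⟨by decide, by decide, lt_of_blt lv2b.1, lv2b.2.1, lv2e⟩
theorem tc3e : ∀ k < 3, ∀ i < 8, (entryChk T3 (selR RL3 I3) D3 (nat_lit 7) (nat_lit 8) (nat_lit 3)) k i = 0 := allZ2_sound tc3e_a
theorem tc3 : c3.OK Rl 6 := ⟨by decide, by decide, by decide, ivc, tc3r, tc3e⟩
theorem lv3e : ∀ i < 7, (l3.ent P) i = 0 := allZ_sound0 lv3e_0
theorem lv3 : l3.OK P 63 := ⟨by decide, by decide, lt_of_blt lv3b.1, lv3b.2.1, lv3e⟩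
theorem tc4e : ∀ k < 2, ∀ i < 3, (entryChk T4 (selR RL4 I4) D4 (nat_lit 3) (nat_lit 3) (nat_lit 2)) k i = 0 := allZ2_sound tc4e_a
theorem tc4 : c4.OK Rl 6 := ⟨by decide, by decide, by decide, ivc, tc4r, tc4e⟩
theorem lv4e : ∀ i < 2, (l4.ent P) i = 0 := allZ_sound0 lv4e_0
theorem lv4 : l4.OK P 63 := ⟨by decide, by decide, lt_of_blt lv4b.1, lv4b.2.1, lv4e⟩
theorem tc5e : ∀ k < 1, ∀ i < 2, (entryChk T5 (selR RL5 I5) D5 (nat_lit 1) (nat_lit 2) (nat_lit 1)) k i = 0 := allZ2_sound tc5e_a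
theorem tc5 : c5.OK Rl 6 := ⟨by decide, by decide, by decide, ivc, tc5r, tc5e⟩
theorem lv5e : ∀ i < 1, (l5.ent P) i = 0 := allZ_sound0 lv5e_0
theorem lv5 : l5.OK P 63 := ⟨by decide, by decide, lt_of_blt lv5b.1, lv5b.2.1, lv5e⟩
theorem bound5 : Bound Rl 1 2 := Bound.step' (Bound.zero Rl) tc5 sb5.1 (by decide +kernel)
theorem bound4 : Bound Rl 2 6 := Bound.step' (bound5) tc4 sb4.1 (by decide +kernel)
theorem bound3 : Bound Rl 3 48 := Bound.step' (bound4) tc3 sb3.1 (by decide +kernel)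
theorem bound2 : Bound Rl 4 768 := Bound.step' (bound3) tc2 sb2.1 (by decide +kernel)
theorem bound1 : Bound Rl 5 23040 := Bound.step' (bound2) tc1 sb1.1 (by decide +kernel)
theorem bound0 : Bound Rl 6 1451520 := Bound.step' (bound1) tc0 sb0.1 (by decide +kernel)
/-- every tuple satisfying `Rl` generates a group of order at most `1451520` -/
theorem bound : Bound Rl 6 1451520 := bound0
theorem chain_of {G Ω : Type*} [Group G] [MulAction G Ω] {g : ℕ → G} {pt : ℕ → Ω}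
    (h : Act g pt P 63 6) (hR : Rels g Rl) : IsChain g pt 63 L :=
  IsChain.cons (L := [l1, l2, l3, l4, l5]) (IsChain.cons (L := [l2, l3, l4, l5]) (IsChain.cons (L := [l3, l4, l5]) (IsChain.cons (L := [l4, l5]) (IsChain.cons (L := [l5]) (IsChain.cons (L := []) (trivial) h hR tc5 lv5 rfl rfl rfl (by decide) sb5.1 sb5.2) h hR tc4 lv4 rfl rfl rfl (by decide) sb4.1 sb4.2) h hR tc3 lv3 rfl rfl rfl (by decide) sb3.1 sb3.2) h hR tc2 lv2 rfl rfl rfl (by decide) sb2.1 sb2.2) h hR tc1 lv1 rfl rfl rfl (by decide) sb1.1 sb1.2) h hR tc0 lv0 rfl rfl rfl (by decide) sb0.1 sb0.2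
theorem base_eq : chainBase L = B := by decide +kernel
theorem pe : ∀ k < 6, ∀ i < 63, (permEnt P (ivOf Rl) (nat_lit 63)) k i = 0 := allZ2_sound pe_a
/-- the letters -/
noncomputable def g : ℕ → Equiv.Perm (Fin 63) := permGen 63 P
theorem act : Act g (ptF 63) P 63 6 := act_permGen pe
theorem rels : Rels g Rl :=
  rels_perm pe ivc ivk (FixUpTo.first rf0)
theorem chain : IsChain g (ptF 63) 63 L := chain_of act rels
theorem card : Nat.card (gen g 6) = 1451520 := chain.card' (ptF_inj 63) (by decide +kernel)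
theorem isBase : IsBase (gen g 6) (ptF 63) B := base_eq ▸ chain.isBase (ptF_inj 63)
theorem Foe : ∀ i < 63, (forEnt P Fo (nat_lit 5) (nat_lit 511) (nat_lit 63) ((nat_lit 0) :: Rs.map Root.r)) i = 0 := allZ_sound0 Foe_0
theorem maxCert_of' {G Ω : Type*} [Group G] [MulAction G Ω] {g : ℕ → G} {pt : ℕ → Ω}
    (h : Act g pt P 63 6) (hb : IsBase (gen g 6) pt B) : MaxCert g pt 63 6 5 0 :=
  maxCert_of h Blt hb (by decide) Foe rtc.2 rtc.1
theorem maxCert : MaxCert g (ptF 63) 63 l0.K (topK [l1, l2, l3, l4, l5]) (l0.Pt 0) :=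
  lv0b.2.2 ▸ maxCert_of' act isBase
theorem simple : IsSimpleGroup (gen g 6) :=
  simple_of_cert (l := l0) (L := [l1, l2, l3, l4, l5]) chain (ptF_inj 63) maxCert Blt isBase
    (evA_mem_gen g (powL_eq_one act Blt isBase nc2).1) (powL_eq_one act Blt isBase nc2).2
    (by decide +kernel) (by decide) fun _ hA hx => ncl_sound act Blt isBase rels ivc nc1 le_rfl hA hx

end H16.S62
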