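import Cfsg.Agent.H16.Slp

/-! Generated by tools/h16 (computation kit). -/

set_option maxRecDepth 100000
set_option maxHeartbeats 0

namespace H16.L34

noncomputable def Rl : List (List ℕ) := [[nat_lit 0, nat_lit 1],
  [nat_lit 1, nat_lit 0],
  [nat_lit 2, nat_lit 2],
  [nat_lit 3, nat_lit 3],
  [nat_lit 4, nat_lit 4],
  [nat_lit 5, nat_lit 5],
  [nat_lit 0, nat_lit 0, nat_lit 0],
  [nat_lit 2, nat_lit 3, nat_lit 2, nat_lit 3],
  [nat_lit 0, nat_lit 3, nat_lit 0, nat_lit 3, nat_lit 0, nat_lit 3],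
  [nat_lit 0, nat_lit 2, nat_lit 0, nat_lit 2, nat_lit 0, nat_lit 2],
  [nat_lit 0, nat_lit 2, nat_lit 1, nat_lit 3, nat_lit 0, nat_lit 2, nat_lit 1, nat_lit 3],
  [nat_lit 0, nat_lit 4, nat_lit 0, nat_lit 4, nat_lit 0, nat_lit 4],
  [nat_lit 2, nat_lit 4, nat_lit 2, nat_lit 4, nat_lit 2, nat_lit 4],
  [nat_lit 0, nat_lit 3, nat_lit 4, nat_lit 2, nat_lit 4, nat_lit 0, nat_lit 3, nat_lit 4, nat_lit 2, nat_lit 4],
  [nat_lit 0, nat_lit 4, nat_lit 3, nat_lit 0, nat_lit 4, nat_lit 3, nat_lit 0, nat_lit 4, nat_lit 3],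
  [nat_lit 2, nat_lit 3, nat_lit 5, nat_lit 3, nat_lit 5],
  [nat_lit 0, nat_lit 5, nat_lit 4, nat_lit 0, nat_lit 5, nat_lit 4, nat_lit 5, nat_lit 1, nat_lit 4]]
noncomputable def Pd : List ℕ := [nat_lit 0xea4a0a44cc5645a77a56220c20,
  nat_lit 0x13749513d12b2c0cf4358311020,
  nat_lit 0x149c64a6390f3408d1ac4939420,
  nat_lit 0x149b1e98b8f2292036896a41820,
  nat_lit 0x117ca879990c5a54d838a320440,
  nat_lit 0x13a4a2a638cf4412b2b4e410c01]
noncomputable def P (k u : ℕ) : ℕ := Nat.land (Nat.shiftRight (nth (nat_lit 0) Pd k) (Nat.mul u (nat_lit 5))) (nat_lit 31)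
noncomputable def T0d : List ℕ := [nat_lit 0x3ceed3127c20a9a3f3f1bc5eb3f1b3647fbee9fafc2e93e3d87e0,
  nat_lit 0x393f3af2f29d1f1ff4aa78bf15f0b1a4f8a3edfb383f0be4d07e0,
  nat_lit 0x5424eb1b4a8aeb06e8a38fc1a70f120df0eebf0be9f9fe5e07e0,
  nat_lit 0x1340cfcca3e499c40e79ff2d17c48c3c3737c2cafeafa3e6e87e0,
  nat_lit 0x1716bc32553c764fc67a0ac22ea9b29cdfc3eed9723d13c1f8be0,
  nat_lit 0x73150b24460a3312e698efb21f0726eba958db1f24e8b83f03e1]
noncomputable def T0 (k u : ℕ) : ℕ := Nat.land (Nat.shiftRight (nth (nat_lit 0) T0d k) (Nat.mul u (nat_lit 10))) (nat_lit 1023)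
noncomputable def I0d : List ℕ := [nat_lit 0x126244011203307012085,
  nat_lit 0x100000001100102,
  nat_lit 0x230672320500000011184,
  nat_lit 0x670220421500000011183,
  nat_lit 0x234000027306011402015,
  nat_lit 0x401320312001100164005]
noncomputable def I0 (k u : ℕ) : ℕ := Nat.land (Nat.shiftRight (nth (nat_lit 0) I0d k) (Nat.mul u (nat_lit 4))) (nat_lit 15)
noncomputable def D0d : ℕ := nat_lit 0x55a92de2e54a129f3c6cd15283c70d1828280
noncomputable def D0 (u : ℕ) : ℕ := Nat.land (Nat.shiftRight D0d (Nat.mul u (nat_lit 7))) (nat_lit 127)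
noncomputable def RL0 : List (List Rule) := [[.defn, .rel (nat_lit 0) (nat_lit 0) [nat_lit 1], .rel (nat_lit 12) (nat_lit 2) [nat_lit 0, nat_lit 0], .rel (nat_lit 12) (nat_lit 1) [nat_lit 0, nat_lit 0], .rel (nat_lit 16) (nat_lit 2) [nat_lit 3, nat_lit 0, nat_lit 3, nat_lit 0, nat_lit 3], .sub (nat_lit 0) [] [], .rel (nat_lit 16) (nat_lit 4) [nat_lit 3, nat_lit 0, nat_lit 3, nat_lit 0, nat_lit 3], .rel (nat_lit 18) (nat_lit 2) [nat_lit 2, nat_lit 0, nat_lit 2, nat_lit 0, nat_lit 2], .rel (nat_lit 32) (nat_lit 0) [nat_lit 5, nat_lit 4, nat_lit 0, nat_lit 5, nat_lit 4, nat_lit 5, nat_lit 1, nat_lit 4]],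
  [.rel (nat_lit 2) (nat_lit 0) [nat_lit 0], .defn, .sub (nat_lit 2) [] []],
  [.rel (nat_lit 4) (nat_lit 0) [nat_lit 2], .defn, .rel (nat_lit 18) (nat_lit 5) [nat_lit 0, nat_lit 2, nat_lit 0, nat_lit 2, nat_lit 0], .rel (nat_lit 24) (nat_lit 4) [nat_lit 4, nat_lit 2, nat_lit 4, nat_lit 2, nat_lit 4], .sub (nat_lit 4) [] [], .rel (nat_lit 14) (nat_lit 2) [nat_lit 3, nat_lit 2, nat_lit 3], .rel (nat_lit 20) (nat_lit 1) [nat_lit 1, nat_lit 3, nat_lit 0, nat_lit 2, nat_lit 1, nat_lit 3, nat_lit 0], .rel (nat_lit 24) (nat_lit 0) [nat_lit 4, nat_lit 2, nat_lit 4, nat_lit 2, nat_lit 4], .rel (nat_lit 30) (nat_lit 0) [nat_lit 3, nat_lit 5, nat_lit 3, nat_lit 5]],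
  [.rel (nat_lit 6) (nat_lit 0) [nat_lit 3], .defn, .rel (nat_lit 14) (nat_lit 1) [nat_lit 2, nat_lit 3, nat_lit 2], .sub (nat_lit 6) [] [], .rel (nat_lit 16) (nat_lit 5) [nat_lit 0, nat_lit 3, nat_lit 0, nat_lit 3, nat_lit 0], .rel (nat_lit 26) (nat_lit 6) [nat_lit 4, nat_lit 2, nat_lit 4, nat_lit 0, nat_lit 3, nat_lit 4, nat_lit 2, nat_lit 4, nat_lit 0], .rel (nat_lit 28) (nat_lit 2) [nat_lit 0, nat_lit 4, nat_lit 3, nat_lit 0, nat_lit 4, nat_lit 3, nat_lit 0, nat_lit 4], .rel (nat_lit 30) (nat_lit 1) [nat_lit 5, nat_lit 3, nat_lit 5, nat_lit 2], .rel (nat_lit 30) (nat_lit 3) [nat_lit 5, nat_lit 2, nat_lit 3, nat_lit 5]],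
  [.rel (nat_lit 8) (nat_lit 0) [nat_lit 4], .defn, .rel (nat_lit 22) (nat_lit 3) [nat_lit 0, nat_lit 4, nat_lit 0, nat_lit 4, nat_lit 0], .rel (nat_lit 22) (nat_lit 5) [nat_lit 0, nat_lit 4, nat_lit 0, nat_lit 4, nat_lit 0], .rel (nat_lit 24) (nat_lit 3) [nat_lit 2, nat_lit 4, nat_lit 2, nat_lit 4, nat_lit 2], .sub (nat_lit 8) [] [], .rel (nat_lit 28) (nat_lit 1) [nat_lit 3, nat_lit 0, nat_lit 4, nat_lit 3, nat_lit 0, nat_lit 4, nat_lit 3, nat_lit 0], .rel (nat_lit 32) (nat_lit 5) [nat_lit 5, nat_lit 1, nat_lit 4, nat_lit 0, nat_lit 5, nat_lit 4, nat_lit 0, nat_lit 5]],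
  [.rel (nat_lit 10) (nat_lit 0) [nat_lit 5], .rel (nat_lit 30) (nat_lit 4) [nat_lit 2, nat_lit 3, nat_lit 5, nat_lit 3], .rel (nat_lit 30) (nat_lit 2) [nat_lit 3, nat_lit 5, nat_lit 2, nat_lit 3], .rel (nat_lit 32) (nat_lit 1) [nat_lit 4, nat_lit 0, nat_lit 5, nat_lit 4, nat_lit 5, nat_lit 1, nat_lit 4, nat_lit 0], .rel (nat_lit 32) (nat_lit 4) [nat_lit 4, nat_lit 5, nat_lit 1, nat_lit 4, nat_lit 0, nat_lit 5, nat_lit 4, nat_lit 0], .defn, .rel (nat_lit 32) (nat_lit 6) [nat_lit 1, nat_lit 4, nat_lit 0, nat_lit 5, nat_lit 4, nat_lit 0, nat_lit 5, nat_lit 4]]]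
noncomputable def c0 : TCert := ⟨21, 6, 31, T0, I0, D0, [[nat_lit 0],
  [nat_lit 1],
  [nat_lit 2],
  [nat_lit 3],
  [nat_lit 4]], RL0⟩
noncomputable def Pt0 (u : ℕ) : ℕ := u
noncomputable def Q0 (u : ℕ) : ℕ := u
noncomputable def l0 : Lev := ⟨21, 6, D0, Pt0, Q0⟩
noncomputable def T1d : List ℕ := [nat_lit 0xc36f3a456f625e7ccb05c12ebcc24c71b2e9a32ac06e3c8b20,
  nat_lit 0xb4b0d9c70954306cce28b2b045be45739a7cb32bb0b01c8f20,
  nat_lit 0x2cc528c251826eb0b5a7b3a857bf03633029ab01ca326c9320,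
  nat_lit 0x2ccd2c2e0e721f023566cc6c4c0dafc094cc06aaca727c9720,
  nat_lit 0x3c12e244d3c1912c15671ac0a8a2495332fcb6e4b0ae3c0321]
noncomputable def T1 (k u : ℕ) : ℕ := Nat.land (Nat.shiftRight (nth (nat_lit 0) T1d k) (Nat.mul u (nat_lit 10))) (nat_lit 1023)
noncomputable def I1d : List ℕ := [nat_lit 0x12624401120330701205,
  nat_lit 0x10000000110012,
  nat_lit 0x87056222040000001113,
  nat_lit 0x67022042150000001113,
  nat_lit 0x23400002740601150301]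
noncomputable def I1 (k u : ℕ) : ℕ := Nat.land (Nat.shiftRight (nth (nat_lit 0) I1d k) (Nat.mul u (nat_lit 4))) (nat_lit 15)
noncomputable def D1d : ℕ := nat_lit 0x8505d2d4478e9a2a509111a304070c14200
noncomputable def D1 (u : ℕ) : ℕ := Nat.land (Nat.shiftRight D1d (Nat.mul u (nat_lit 7))) (nat_lit 127)
noncomputable def RL1 : List (List Rule) := [[.defn, .rel (nat_lit 0) (nat_lit 0) [nat_lit 1], .rel (nat_lit 12) (nat_lit 2) [nat_lit 0, nat_lit 0], .rel (nat_lit 12) (nat_lit 1) [nat_lit 0, nat_lit 0], .rel (nat_lit 16) (nat_lit 2) [nat_lit 3, nat_lit 0, nat_lit 3, nat_lit 0, nat_lit 3], .sub (nat_lit 0) [] [], .rel (nat_lit 16) (nat_lit 4) [nat_lit 3, nat_lit 0, nat_lit 3, nat_lit 0, nat_lit 3], .rel (nat_lit 18) (nat_lit 2) [nat_lit 2, nat_lit 0, nat_lit 2, nat_lit 0, nat_lit 2]],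
  [.rel (nat_lit 2) (nat_lit 0) [nat_lit 0], .defn, .sub (nat_lit 2) [] []],
  [.rel (nat_lit 4) (nat_lit 0) [nat_lit 2], .defn, .rel (nat_lit 18) (nat_lit 5) [nat_lit 0, nat_lit 2, nat_lit 0, nat_lit 2, nat_lit 0], .sub (nat_lit 4) [] [], .rel (nat_lit 14) (nat_lit 2) [nat_lit 3, nat_lit 2, nat_lit 3], .rel (nat_lit 20) (nat_lit 1) [nat_lit 1, nat_lit 3, nat_lit 0, nat_lit 2, nat_lit 1, nat_lit 3, nat_lit 0], .rel (nat_lit 24) (nat_lit 0) [nat_lit 4, nat_lit 2, nat_lit 4, nat_lit 2, nat_lit 4], .rel (nat_lit 24) (nat_lit 4) [nat_lit 4, nat_lit 2, nat_lit 4, nat_lit 2, nat_lit 4], .rel (nat_lit 26) (nat_lit 3) [nat_lit 4, nat_lit 0, nat_lit 3, nat_lit 4, nat_lit 2, nat_lit 4, nat_lit 0, nat_lit 3, nat_lit 4]],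
  [.rel (nat_lit 6) (nat_lit 0) [nat_lit 3], .defn, .rel (nat_lit 14) (nat_lit 1) [nat_lit 2, nat_lit 3, nat_lit 2], .sub (nat_lit 6) [] [], .rel (nat_lit 16) (nat_lit 5) [nat_lit 0, nat_lit 3, nat_lit 0, nat_lit 3, nat_lit 0], .rel (nat_lit 26) (nat_lit 6) [nat_lit 4, nat_lit 2, nat_lit 4, nat_lit 0, nat_lit 3, nat_lit 4, nat_lit 2, nat_lit 4, nat_lit 0], .rel (nat_lit 28) (nat_lit 2) [nat_lit 0, nat_lit 4, nat_lit 3, nat_lit 0, nat_lit 4, nat_lit 3, nat_lit 0, nat_lit 4], .rel (nat_lit 28) (nat_lit 8) [nat_lit 0, nat_lit 4, nat_lit 3, nat_lit 0, nat_lit 4, nat_lit 3, nat_lit 0, nat_lit 4]],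
  [.rel (nat_lit 8) (nat_lit 0) [nat_lit 4], .defn, .rel (nat_lit 22) (nat_lit 3) [nat_lit 0, nat_lit 4, nat_lit 0, nat_lit 4, nat_lit 0], .rel (nat_lit 22) (nat_lit 5) [nat_lit 0, nat_lit 4, nat_lit 0, nat_lit 4, nat_lit 0], .rel (nat_lit 24) (nat_lit 3) [nat_lit 2, nat_lit 4, nat_lit 2, nat_lit 4, nat_lit 2], .rel (nat_lit 24) (nat_lit 5) [nat_lit 2, nat_lit 4, nat_lit 2, nat_lit 4, nat_lit 2], .rel (nat_lit 28) (nat_lit 1) [nat_lit 3, nat_lit 0, nat_lit 4, nat_lit 3, nat_lit 0, nat_lit 4, nat_lit 3, nat_lit 0], .rel (nat_lit 28) (nat_lit 7) [nat_lit 3, nat_lit 0, nat_lit 4, nat_lit 3, nat_lit 0, nat_lit 4, nat_lit 3, nat_lit 0]]]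
noncomputable def c1 : TCert := ⟨20, 5, 31, T1, I1, D1, [[nat_lit 0],
  [nat_lit 1],
  [nat_lit 2],
  [nat_lit 3]], RL1⟩
noncomputable def Pt1d : ℕ := nat_lit 0xa4e5183dcd62d4941cc520c41
noncomputable def Pt1 (u : ℕ) : ℕ := Nat.land (Nat.shiftRight Pt1d (Nat.mul u (nat_lit 5))) (nat_lit 31)
noncomputable def Q1d : ℕ := nat_lit 0x139460f7358b525073148310400
noncomputable def Q1 (u : ℕ) : ℕ := Nat.land (Nat.shiftRight Q1d (Nat.mul u (nat_lit 5))) (nat_lit 31)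
noncomputable def l1 : Lev := ⟨20, 5, D1, Pt1, Q1⟩
noncomputable def T2d : List ℕ := [nat_lit 0xb97d684fb5ab5cceb2a7cab1a4c6c3c0,
  nat_lit 0x3cb88e499ab5cf5d96b2cb93b1c7c4c0,
  nat_lit 0x3b0ab7b62f1e7889cdcca293a495b0c1,
  nat_lit 0x9aab7c8d9eafb4b396a7b1c9c8b0c5c2]
noncomputable def T2 (k u : ℕ) : ℕ := Nat.land (Nat.shiftRight (nth (nat_lit 0) T2d k) (Nat.mul u (nat_lit 8))) (nat_lit 255)
noncomputable def I2d : List ℕ := [nat_lit 0x1b0a908844c,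
  nat_lit 0x1800800804a,
  nat_lit 0x800082258a01,
  nat_lit 0x83080081209]
noncomputable def I2 (k u : ℕ) : ℕ := Nat.land (Nat.shiftRight (nth (nat_lit 0) I2d k) (Nat.mul u (nat_lit 3))) (nat_lit 7)
noncomputable def D2d : ℕ := nat_lit 0x96079a5544cf2481c5103080
noncomputable def D2 (u : ℕ) : ℕ := Nat.land (Nat.shiftRight D2d (Nat.mul u (nat_lit 6))) (nat_lit 63)
noncomputable def RL2 : List (List Rule) := [[.rel (nat_lit 0) (nat_lit 0) [nat_lit 1], .defn, .rel (nat_lit 12) (nat_lit 2) [nat_lit 0, nat_lit 0], .rel (nat_lit 12) (nat_lit 1) [nat_lit 0, nat_lit 0], .sub (nat_lit 0) [] [], .rel (nat_lit 18) (nat_lit 2) [nat_lit 2, nat_lit 0, nat_lit 2, nat_lit 0, nat_lit 2]],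
  [.rel (nat_lit 2) (nat_lit 0) [nat_lit 0], .defn, .sub (nat_lit 2) [] [], .rel (nat_lit 20) (nat_lit 6) [nat_lit 3, nat_lit 0, nat_lit 2, nat_lit 1, nat_lit 3, nat_lit 0, nat_lit 2]],
  [.rel (nat_lit 4) (nat_lit 0) [nat_lit 2], .defn, .rel (nat_lit 14) (nat_lit 2) [nat_lit 3, nat_lit 2, nat_lit 3], .rel (nat_lit 14) (nat_lit 0) [nat_lit 3, nat_lit 2, nat_lit 3], .rel (nat_lit 18) (nat_lit 1) [nat_lit 0, nat_lit 2, nat_lit 0, nat_lit 2, nat_lit 0], .rel (nat_lit 18) (nat_lit 5) [nat_lit 0, nat_lit 2, nat_lit 0, nat_lit 2, nat_lit 0]],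
  [.rel (nat_lit 6) (nat_lit 0) [nat_lit 3], .defn, .rel (nat_lit 16) (nat_lit 5) [nat_lit 0, nat_lit 3, nat_lit 0, nat_lit 3, nat_lit 0], .rel (nat_lit 14) (nat_lit 3) [nat_lit 2, nat_lit 3, nat_lit 2]]]
noncomputable def c2 : TCert := ⟨16, 4, 15, T2, I2, D2, [[nat_lit 0],
  [nat_lit 1]], RL2⟩
noncomputable def Pt2d : ℕ := nat_lit 0x1b4c23a089595ea83232
noncomputable def Pt2 (u : ℕ) : ℕ := Nat.land (Nat.shiftRight Pt2d (Nat.mul u (nat_lit 5))) (nat_lit 31)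
noncomputable def Q2d : ℕ := nat_lit 0x1350e2748abd69fc00
noncomputable def Q2 (u : ℕ) : ℕ := Nat.land (Nat.shiftRight Q2d (Nat.mul u (nat_lit 4))) (nat_lit 15)
noncomputable def l2 : Lev := ⟨16, 4, D2, Pt2, Q2⟩
noncomputable def T3d : List ℕ := [nat_lit 0x86d,
  nat_lit 0x18e]
noncomputable def T3 (k u : ℕ) : ℕ := Nat.land (Nat.shiftRight (nth (nat_lit 0) T3d k) (Nat.mul u (nat_lit 4))) (nat_lit 15)
noncomputable def I3d : List ℕ := [nat_lit 9,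
  nat_lit 1]
noncomputable def I3 (k u : ℕ) : ℕ := Nat.land (Nat.shiftRight (nth (nat_lit 0) I3d k) (Nat.mul u (nat_lit 2))) (nat_lit 3)
noncomputable def D3d : ℕ := nat_lit 4
noncomputable def D3 (u : ℕ) : ℕ := Nat.land (Nat.shiftRight D3d (Nat.mul u (nat_lit 1))) (nat_lit 1)
noncomputable def RL3 : List (List Rule) := [[.rel (nat_lit 0) (nat_lit 0) [nat_lit 1], .defn, .rel (nat_lit 12) (nat_lit 2) [nat_lit 0, nat_lit 0]],
  [.rel (nat_lit 2) (nat_lit 0) [nat_lit 0], .defn]]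
noncomputable def c3 : TCert := ⟨3, 2, 3, T3, I3, D3, [], RL3⟩
noncomputable def Pt3d : ℕ := nat_lit 0x78f
noncomputable def Pt3 (u : ℕ) : ℕ := Nat.land (Nat.shiftRight Pt3d (Nat.mul u (nat_lit 4))) (nat_lit 15)
noncomputable def Q3d : ℕ := nat_lit 0x18000
noncomputable def Q3 (u : ℕ) : ℕ := Nat.land (Nat.shiftRight Q3d (Nat.mul u (nat_lit 2))) (nat_lit 3)
noncomputable def l3 : Lev := ⟨3, 2, D3, Pt3, Q3⟩
noncomputable def B : List ℕ := [nat_lit 0, nat_lit 1, nat_lit 18, nat_lit 15]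
noncomputable def L : List Lev := [l0, l1, l2, l3]
noncomputable def Rs : List Root := [⟨(nat_lit 1), [[nat_lit 5],
  [nat_lit 5]], [((nat_lit 7), [nat_lit 6]),
  ((nat_lit 5), [nat_lit 6])]⟩]
noncomputable def Fod : ℕ := nat_lit 0x24791a3f8ca2788da267d9a66597659926450d4310b4288900400
noncomputable def Fo (u : ℕ) : ℕ := Nat.land (Nat.shiftRight Fod (Nat.mul u (nat_lit 10))) (nat_lit 1023)
noncomputable def nx : List ℕ := [nat_lit 5, nat_lit 0, nat_lit 3, nat_lit 4]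
noncomputable def nL : List (List ℕ × ℕ) := [([], (nat_lit 3)),
  ([nat_lit 5], (nat_lit 3)),
  ([nat_lit 0, nat_lit 4, nat_lit 1], (nat_lit 2)),
  ([], (nat_lit 2)),
  ([nat_lit 2, nat_lit 0], (nat_lit 2)),
  ([], (nat_lit 2))]

theorem tc0e_a : allZ2 (entryChk T0 (selR RL0 I0) D0 (nat_lit 31) (nat_lit 21) (nat_lit 6)) (nat_lit 6) (nat_lit 21) = true := by decide +kernel
theorem tc0r : rulesChk Rl c0.Sl RL0 (nat_lit 6) = true := by decide +kernel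
theorem ivc : ivChk Rl (nat_lit 6) = true := by decide +kernel
theorem lv0e_0 : allZ (l0.ent P) (nat_lit 0) (nat_lit 20) = true := by decide +kernel
theorem lv0b : Nat.blt (Pt0 (nat_lit 0)) (nat_lit 21) = true ∧ Q0 (Pt0 (nat_lit 0)) = 0 ∧ Pt0 (nat_lit 0) = 0 := by decide +kernel
theorem sb0 : allL (ltAll (nat_lit 5)) c0.Sl = true ∧ fixLetters P (nat_lit 5) (Pt0 (nat_lit 0)) = true := by decide +kernel
theorem tc1e_a : allZ2 (entryChk T1 (selR RL1 I1) D1 (nat_lit 31) (nat_lit 20) (nat_lit 5)) (nat_lit 5) (nat_lit 20) = true := by decide +kernel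
theorem tc1r : rulesChk Rl c1.Sl RL1 (nat_lit 5) = true := by decide +kernel
theorem lv1e_0 : allZ (l1.ent P) (nat_lit 0) (nat_lit 19) = true := by decide +kernel
theorem lv1b : Nat.blt (Pt1 (nat_lit 0)) (nat_lit 21) = true ∧ Q1 (Pt1 (nat_lit 0)) = 0 ∧ Pt1 (nat_lit 0) = 1 := by decide +kernel
theorem sb1 : allL (ltAll (nat_lit 4)) c1.Sl = true ∧ fixLetters P (nat_lit 4) (Pt1 (nat_lit 0)) = true := by decide +kernel
theorem tc2e_a : allZ2 (entryChk T2 (selR RL2 I2) D2 (nat_lit 15) (nat_lit 16) (nat_lit 4)) (nat_lit 4) (nat_lit 16) = true := by decide +kernel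
theorem tc2r : rulesChk Rl c2.Sl RL2 (nat_lit 4) = true := by decide +kernel
theorem lv2e_0 : allZ (l2.ent P) (nat_lit 0) (nat_lit 15) = true := by decide +kernel
theorem lv2b : Nat.blt (Pt2 (nat_lit 0)) (nat_lit 21) = true ∧ Q2 (Pt2 (nat_lit 0)) = 0 ∧ Pt2 (nat_lit 0) = 18 := by decide +kernel
theorem sb2 : allL (ltAll (nat_lit 2)) c2.Sl = true ∧ fixLetters P (nat_lit 2) (Pt2 (nat_lit 0)) = true := by decide +kernel
theorem tc3e_a : allZ2 (entryChk T3 (selR RL3 I3) D3 (nat_lit 3) (nat_lit 3) (nat_lit 2)) (nat_lit 2) (nat_lit 3) = true := by decide +kernel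
theorem tc3r : rulesChk Rl c3.Sl RL3 (nat_lit 2) = true := by decide +kernel
theorem lv3e_0 : allZ (l3.ent P) (nat_lit 0) (nat_lit 2) = true := by decide +kernel
theorem lv3b : Nat.blt (Pt3 (nat_lit 0)) (nat_lit 21) = true ∧ Q3 (Pt3 (nat_lit 0)) = 0 ∧ Pt3 (nat_lit 0) = 15 := by decide +kernel
theorem sb3 : allL (ltAll (nat_lit 0)) c3.Sl = true ∧ fixLetters P (nat_lit 0) (Pt3 (nat_lit 0)) = true := by decide +kernel
theorem Blt : ltAll (nat_lit 21) B = 0 := by decide +kernel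
theorem ivk : ivLt Rl (nat_lit 6) = true := by decide +kernel
theorem pe_a : allZ2 (permEnt P (ivOf Rl) (nat_lit 21)) (nat_lit 6) (nat_lit 21) = true := by decide +kernel
theorem rf0 : allL (fixRange P (nat_lit 6) (nat_lit 0) (nat_lit 21)) (Rl.drop (nat_lit 6)) = true := by decide +kernel
theorem Foe_0 : allZ (forEnt P Fo (nat_lit 5) (nat_lit 127) (nat_lit 21) ((nat_lit 0) :: Rs.map Root.r)) (nat_lit 0) (nat_lit 21) = true := by decide +kernel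
theorem rtc : allL (Root.chk P (nat_lit 6) B (nat_lit 5) (nat_lit 0)) Rs = true ∧ fixLetters P (nat_lit 5) (nat_lit 0) = true := by decide +kernel
theorem nc1 : allZ (fun k => force k (nclEnt P Rl (nat_lit 6) B nx nL)) 0 (nat_lit 6) = true := by decide +kernel
theorem nc2 : powL P (nat_lit 6) B nx (nat_lit 7) = 0 := by decide +kernel

theorem tc0e : ∀ k < 6, ∀ i < 21, (entryChk T0 (selR RL0 I0) D0 (nat_lit 31) (nat_lit 21) (nat_lit 6)) k i = 0 := allZ2_sound tc0e_a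
theorem tc0 : c0.OK Rl 6 := ⟨by decide, by decide, by decide, ivc, tc0r, tc0e⟩
theorem lv0e : ∀ i < 20, (l0.ent P) i = 0 := allZ_sound0 lv0e_0
theorem lv0 : l0.OK P 21 := ⟨by decide, by decide, lt_of_blt lv0b.1, lv0b.2.1, lv0e⟩
theorem tc1e : ∀ k < 5, ∀ i < 20, (entryChk T1 (selR RL1 I1) D1 (nat_lit 31) (nat_lit 20) (nat_lit 5)) k i = 0 := allZ2_sound tc1e_a
theorem tc1 : c1.OK Rl 6 := ⟨by decide, by decide, by decide, ivc, tc1r, tc1e⟩
theorem lv1e : ∀ i < 19, (l1.ent P) i = 0 := allZ_sound0 lv1e_0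
theorem lv1 : l1.OK P 21 := ⟨by decide, by decide, lt_of_blt lv1b.1, lv1b.2.1, lv1e⟩
theorem tc2e : ∀ k < 4, ∀ i < 16, (entryChk T2 (selR RL2 I2) D2 (nat_lit 15) (nat_lit 16) (nat_lit 4)) k i = 0 := allZ2_sound tc2e_a
theorem tc2 : c2.OK Rl 6 := ⟨by decide, by decide, by decide, ivc, tc2r, tc2e⟩
theorem lv2e : ∀ i < 15, (l2.ent P) i = 0 := allZ_sound0 lv2e_0
theorem lv2 : l2.OK P 21 := ⟨by decide, by decide, lt_of_blt lv2b.1, lv2b.2.1, lv2e⟩
theorem tc3e : ∀ k < 2, ∀ i < 3, (entryChk T3 (selR RL3 I3) D3 (nat_lit 3) (nat_lit 3) (nat_lit 2)) k i = 0 := allZ2_sound tc3e_a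
theorem tc3 : c3.OK Rl 6 := ⟨by decide, by decide, by decide, ivc, tc3r, tc3e⟩
theorem lv3e : ∀ i < 2, (l3.ent P) i = 0 := allZ_sound0 lv3e_0
theorem lv3 : l3.OK P 21 := ⟨by decide, by decide, lt_of_blt lv3b.1, lv3b.2.1, lv3e⟩
theorem bound3 : Bound Rl 2 3 := Bound.step' (Bound.zero Rl) tc3 sb3.1 (by decide +kernel)
theorem bound2 : Bound Rl 4 48 := Bound.step' (bound3) tc2 sb2.1 (by decide +kernel)
theorem bound1 : Bound Rl 5 960 := Bound.step' (bound2) tc1 sb1.1 (by decide +kernel)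
theorem bound0 : Bound Rl 6 20160 := Bound.step' (bound1) tc0 sb0.1 (by decide +kernel)
/-- every tuple satisfying `Rl` generates a group of order at most `20160` -/
theorem bound : Bound Rl 6 20160 := bound0
theorem chain_of {G Ω : Type*} [Group G] [MulAction G Ω] {g : ℕ → G} {pt : ℕ → Ω}
    (h : Act g pt P 21 6) (hR : Rels g Rl) : IsChain g pt 21 L :=
  IsChain.cons (L := [l1, l2, l3]) (IsChain.cons (L := [l2, l3]) (IsChain.cons (L := [l3]) (IsChain.cons (L := []) (trivial) h hR tc3 lv3 rfl rfl rfl (by decide) sb3.1 sb3.2) h hR tc2 lv2 rfl rfl rfl (by decide) sb2.1 sb2.2) h hR tc1 lv1 rfl rfl rfl (by decide) sb1.1 sb1.2) h hR tc0 lv0 rfl rfl rfl (by decide) sb0.1 sb0.2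
theorem base_eq : chainBase L = B := by decide +kernel
theorem pe : ∀ k < 6, ∀ i < 21, (permEnt P (ivOf Rl) (nat_lit 21)) k i = 0 := allZ2_sound pe_a
/-- the letters -/
noncomputable def g : ℕ → Equiv.Perm (Fin 21) := permGen 21 P
theorem act : Act g (ptF 21) P 21 6 := act_permGen pe
theorem rels : Rels g Rl :=
  rels_perm pe ivc ivk (FixUpTo.first rf0)
theorem chain : IsChain g (ptF 21) 21 L := chain_of act rels
theorem card : Nat.card (gen g 6) = 20160 := chain.card' (ptF_inj 21) (by decide +kernel)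
theorem isBase : IsBase (gen g 6) (ptF 21) B := base_eq ▸ chain.isBase (ptF_inj 21)
theorem Foe : ∀ i < 21, (forEnt P Fo (nat_lit 5) (nat_lit 127) (nat_lit 21) ((nat_lit 0) :: Rs.map Root.r)) i = 0 := allZ_sound0 Foe_0
theorem maxCert_of' {G Ω : Type*} [Group G] [MulAction G Ω] {g : ℕ → G} {pt : ℕ → Ω}
    (h : Act g pt P 21 6) (hb : IsBase (gen g 6) pt B) : MaxCert g pt 21 6 5 0 :=
  maxCert_of h Blt hb (by decide) Foe rtc.2 rtc.1
theorem maxCert : MaxCert g (ptF 21) 21 l0.K (topK [l1, l2, l3]) (l0.Pt 0) :=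
  lv0b.2.2 ▸ maxCert_of' act isBase
theorem simple : IsSimpleGroup (gen g 6) :=
  simple_of_cert (l := l0) (L := [l1, l2, l3]) chain (ptF_inj 21) maxCert Blt isBase
    (evA_mem_gen g (powL_eq_one act Blt isBase nc2).1) (powL_eq_one act Blt isBase nc2).2
    (by decide +kernel) (by decide) fun _ hA hx => ncl_sound act Blt isBase rels ivc nc1 le_rfl hA hx

end H16.L34
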