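import Cfsg.Agent.H16.Slp

/-! Generated by tools/h16 (computation kit). -/

set_option maxRecDepth 100000
set_option maxHeartbeats 0

namespace H16.J1

noncomputable def Rl : List (List ℕ) := [[nat_lit 0, nat_lit 1],
  [nat_lit 1, nat_lit 0],
  [nat_lit 2, nat_lit 2],
  [nat_lit 3, nat_lit 3],
  [nat_lit 0, nat_lit 0, nat_lit 0, nat_lit 0, nat_lit 0],
  [nat_lit 0, nat_lit 2, nat_lit 0, nat_lit 2, nat_lit 0, nat_lit 2, nat_lit 0, nat_lit 2, nat_lit 0, nat_lit 2],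
  [nat_lit 0, nat_lit 0, nat_lit 2, nat_lit 1, nat_lit 2, nat_lit 0, nat_lit 0, nat_lit 2, nat_lit 1, nat_lit 2, nat_lit 0, nat_lit 0, nat_lit 2, nat_lit 1, nat_lit 2],
  [nat_lit 0, nat_lit 3, nat_lit 0, nat_lit 3],
  [nat_lit 2, nat_lit 3, nat_lit 2, nat_lit 3, nat_lit 2, nat_lit 3, nat_lit 2, nat_lit 3, nat_lit 2, nat_lit 3],
  [nat_lit 0, nat_lit 0, nat_lit 2, nat_lit 0, nat_lit 0, nat_lit 2, nat_lit 0, nat_lit 2, nat_lit 1, nat_lit 3, nat_lit 2, nat_lit 3, nat_lit 2, nat_lit 0, nat_lit 2, nat_lit 3, nat_lit 2, nat_lit 3]]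
noncomputable def Pd : List ℕ := [nat_lit 0x20ef678bb601037fba21102723de0ada6bb61ab0684b51d4e379be9fcc57db21f2c08234596fd654056aeb712cd62e556ab956fc6937542a278365f0e67626d30f57a37d24cd48239728d793b9de8a4aadd1ea74a2153c8374ad9cee13e1f5bc7a67ad0f0b84d380e8ce6e20976c152b09a6db5e31cd0d64ea8cccbf351910ed044980c2be4b17598a92cb2516c463155865337949386c5e93ce25c5d1349c6b3f12d64b03aabc90ac4011954a8219090c51532913ea01e8f8ce54442652e39499692272228dce03446104ae76189b86084409fc5c7b3c9dc582d249cc5436311b450252c1a4486531978be211116c70402b0bc76500e130941a23910321f148987e3c0b0e82635198c820110e8ac1a270b8541423100383c070d820300c0905008050782416020300c0200,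
  nat_lit 0x1ef0184be1faeb82401cd0581bc5d0dc77bc9dad57f421a0cf79b1e0ed762b1a0cd3723d577025cb51c0ff7a38d70ae672d5b4ab523f1acfa7da81f2f652b6dd49859ab1989174b9d1cee5122de08c44a9950ec4e25106a3549fd92b0612e9cab2711e5c2783b379be746e9c52070601ad4e6a4f361b26834af53e85692bcc4d130a4d86bf2fb34bacb60b29905746b112e634c9b57c505e2a89e73271ed6cb7262d096b125150eead2317102594394884843e26c7ca132a74789a1d90d2a961c8e924801b1791e3f2a8cd146444218d830411f4fc2e3d0b48e75159c8b62a379b8ac3412998ce2418888c0352d11040580f878a6511913490490d1144e410c098803d0a0dc701314044362f078b0520d0b88c2c0a1082c381d03848320c028540c0e0800c1009010100200,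
  nat_lit 0x20b038341e12ee843fe02ea81381bee577b8dc2f67bbe1bcd064b6d8ce97dc1186ec5ec01e0ba6b2d9f8b47d389f2fe7ebd5bab0792899aac5039d3e9d52ac55cf44ba55b2bf55311e6ad45bc514ca76a212486662a1d6af40ba0fc7d48b98f4e43ca91a4dc5e34590d83932ce0be371bda6b234b692cd76a999a86532269186167a859c5f31b056e5a3d960ee9963b14a8c228b00a05e3999d764e3aae5704c47ad5664a46920fe4641aac88a95329cda41200f9463d41279389b498e9303c4a210705c22a406a8e1994c64892b1490e8517a007e7c169e05876159d0b67113898d86b269a8d06011988425d14880b2222b9543a1c2786c9649238646e18219082c141d8d07236088406230170385428058941e24048203e1e0a8680c050b810261201834180a038040400,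
  nat_lit 0x1ed07843e5d6fd743fde2e48139a08dc6bb5a0cd56a425d2cf79b6602ef78311dad282aedeb035c3f9bf0059b8972ad72ab1bafc602ade4a07dbe9f0f74dbb152cb7a2d598cd682c1628c50a298aee49ad10edb42a510481751f9c2e7591ed9cc271add92ca441d1c0de6d279a26f521e8d4a7389a18ed833aa8ca9c6998d1e9030224bebe61a4524984c9e0aec82ab192caf609417e6d27af5785b26ae898795b298f88e2494c8eae22911464354145084225a947aa24f8f13a3b4d16472974a8e0ba36400d4c433468fd16313b0c0dc86418b8fe7d358b0ee2b3a8a8e672381b04a282b090d26632084c25e10170b41f2c074a8520d938344a2411852400c85c823e0a04c74371a040640f178b44e0d130282a23110240e1e0e018300c02058240308838040b040140001]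
noncomputable def P (k u : ℕ) : ℕ := Nat.land (Nat.shiftRight (nth (nat_lit 0) Pd k) (Nat.mul u (nat_lit 9))) (nat_lit 511)
noncomputable def T0d : List ℕ := [nat_lit 0x520f2ef69778cbbb4b2002b03127fcbba10a102b02977215bdc5a0b2eda976bcb3625daa69069684cbb5181d404e36079a6be865fd2ec5677dbf320d5f32ec0988230345a5964cfd5b654c4065d6a5aeb01714bace5d6234e59756cb2ba5d564afc3869133765d432ca268784b36661f086e63b764ba6e5d3130f5987a0bb7e5d252ccd97484ba3985732c8d98794b3ba61df2e8a4f4ac02dd911ecea7474a4ba14b93d2c839874caad969ceb2e1973e4b1f46dbd2e7a5167cb2d25cf0b8b85d4d4b3825ce838ce986e3b2099176fac13c52ba308d9a730db545e2831e5cd130d6954e98a8e58cc8cbf37354b191b10f30d05244cb98258c2c6be964b4b9766198c6a9972ccc325fd16fac496634b95661872e537e37cb14a0538fe6c965ecb93ddce2485c965d4b936589cda6b943f4b92e616530b0953acc2be589130ac23404b11a61552ca89721cb909f10cf05198534c292593f30a0971ecb0fa50cf265493444c266592f2e399849ca96a612326729322cb0dd94e12c3498464190600aebc769718bd9ba5c6130849840cb1fe5c5d307b983ccb1de5c592c2d9424cb1ce5c5528366b314c1b650512e25862c4b1a65c4930659831cb17a60bf2e2196114c16e50710e40982b4a8be50773050960e4c13258952e1a9823cc1125c33101f9614c909a607f303c6b0b4b0ea5c2730359819c20ca5c212c11960ecc0ae5c1b3027930bb60565c15302398104883a1c3d2e07980dcb02260312c0c94094c0525c092c059807cb02658172e0298034c00e58033000,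
  nat_lit 0x255ee8301138499be055fb2eeb14820a4025dcc570511818c3c495d048dc6677a63c8d1db2ed52a7f4c4225da12ecf5f79cbb1e620eced79762cab1a620c74d32c722fbd65d773102595ca135065c130ff017a0038d61712aae16670d2d495b52eab97524c3f255ad2afa987dcba8261f330f635529bb6d7dd52e9850598eab255992e916874ad39e5d1cfaee4f514aa2e61e0f88c9744b9a99f15130ec454e312525506a6a36354ca9fd8192b6b07f614a2ea61cb2ab298714b9e661c32e78973b4ab7a61bf2e74986ecb9c589212a7066604b9aced4f2e6a304f4ab6261b32e68953496af6513f008598692e2be5cc530d19530caa4d39868cbf972fcc3365cbb30cb6360cc32a55912e577e46cc311452f24636b4cbd9b6617d2e50955e3aaaa5c9e44739527499ee556d30b797264c2d25c9730b195252e95250ef30ad952349171d902c8597d43bd14a5c84fc846c3e1b26e547d30a19332caa765c792a9a971db510e552b3096971cca8ea61244680971b4a17a611f0a3f7f2acb8ce6115246498444aa19dcd92e3098414a9f660fd2e2e983d4a8b64c8f2a759715ca9ca48b72e2a9837cc1ba08ad0c349712ca99a60cf2e249518ca88a60c12635952d499125c412a58970fc187a60a7305194194c13654913049970d4c116544f2a41970c4889a6081303d970a4a8de60712e1387144304654372a2f9707cc0b260532e0d920bb508dac2d2e0a9810c982e5439301d9703c804a60332a0c9502cc056540d2a0e98084b80e5411300997014c01254033000,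
  nat_lit 0xc60a230313830941cc21258ee108407bfc360296ea0e814bb825dbe42e56677ab38d05c264f6447b99be01dbc0cd097649d36e5d8d26e9657d96c125d86ccec975ea640251e12eba596b4bad881f92eb4577d0038909f330fe987e833d47dba46b03b794ba89799a3aac97502c39e5d3f2e9d67529bac57d5c0af4974bcba557db288bf6e553531261e650ad9745cc3c65d14d6ca9876cba2181252e86456630aa261d69caf9740cc3a25cfd2e7d7248cc39a5cf530e4973ca0290d9a444dc4d5e303449d903cd8973937b2e5ce0c4be9737391bda1a67eb29734cc369912d30d7986acb99a61a92e6597321b269b1192e619867b2a86619d2e5f6331afb05c56f2e5a6f3dcb961d0eeda999863cc3165ca930c29728cc3025ca0d25e2639c199e61772e4e5e3acc2e661712e4c7047cc2d661672e4a7546cb92174ff2e462741cc2ae5c8930a973534c29da0db2e4197204b8fa61472e3d82414c27a6139309b6449cb8ea61312a3c984a352125c70de5c9522cc2425c6b308e9719c094e5c653089822b3514a610f30859717cc201a47f307c9716cc1e2385930768c15cc1d250b730719713cb89a60d9306b6a26cc1aa60d12c609711cc18a5c43305d7014cb88260b32222982bcc1565c3b2e1c9827cb86e60971e498d23cb865c46f2e189821cc10a5c2d2e14981dc80d2607330369708cb8426063303098174b83a605530289705cc096501f30249704cb822603f301e950acc06a5c0d2e05980bcb812602730129701cc0366019300a9803cb80660053000,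
  nat_lit 0x25dec2d07158419be65dd62efd97740a3fc61e32ee4138114b985a08a8dc096bcbb58d20c62d5976a4c42589d208cf3579a7b645e0214ef0b784bb10d5da74d29882cbaed85eb3103975c153f865bf31009759803897d732ead1872cbab095baaafc3d602b2ad39e52ea0087dcc3e8c9f130f7974d9cbb18552c8cb037a252d59598cccd63683a2c1d9632e8c5150cba28318b30ee5149b9ad25d0e78db9742a4a525d052e8198754b9f981c330e771594b9ed2d9ce4c29871b82ddd592eaca5f444b9d261c130de576d1827989a32e6f3e52451ea5cd47aa75438cb9a1418f30d8973397aaa5cca8a9c9869cb98d991ec8909730292265cbe90be5061b3a45a124ca98654cbb1e25caf30c8972acc3194d2cbcaf9860cb942617efa6d9727cc2f66178485b9726cc2ea5c98de79985b44a99b8f8ee8e9724af94e5c8f30ae9722cb91155472e4398543d145f9092a428a25cc2965c7b30a2984fcb8f2613b2e3b984d331665c733097984acb8e1a4bb2e3625404b8d59cc52e339846c28fe61172e31603b4b8c1e4dd30869841cb8ba60ff307d8b35cb8b260ef2e2b983acb8aa60e7307298384b1b25c4b2428842b4b89260d3306698324b88660c3305e97104c17260b52e1f982c4b87660a93052970dcc13a5c35304a98244c11a18532640880ccb85e6083303e690a4b84e60753037981a4304260652e0f9817cc0b61c4f100d98134b829ac2ad4239811498265c0f0a1e980e4b81a24312c0c97024c05a48252e039808cc03a5c05300b98044c0165c013001]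
noncomputable def T0 (k u : ℕ) : ℕ := Nat.land (Nat.shiftRight (nth (nat_lit 0) T0d k) (Nat.mul u (nat_lit 17))) (nat_lit 131071)
noncomputable def I0d : List ℕ := [nat_lit 0x40000631008402c60008071006330cc039cc008a4618406880070080713402314294000108805001c2088201b04a10042090a3008603141518800091031bc611880122c45209011004c280250046310020688d3102831004318021204411082200062084410086320440090232086208cc20100108801088021880e3840038801088201046308c01104400840928c212880108c02284013280108d0008829784020944008450,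
  nat_lit 0x40000020000200000100001000000000000400080210000000c00000000002000001000000000000020080200002008000000000002000000080010000000401004000040000020000000000100401000010000000000000010000000001000200002000020080000802008000000000840000020200200000000021004010040500021000200000000420000000800100020004000800100402,
  nat_lit 0x14a28000030c00000460000120470000002408048602800059461081c3500000000001400001a00002b0040408080280330040070401024000440601804000400040108020018000a02000000000090840100400034201042018420100003040138440000200042138020090021840100001408210040100401004010002120427004010002b0840008030380600840008021000210802100401000211840008021004210802f,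
  nat_lit 0x20000400c4000000100600044a30800100a3080010086100c00000621000000441000020000200040200a110c0001800080611010008002100214084020800000010000208040000000004500001004e00802000420004020800800001000a008c4000401080200800108120580e0088204800108021380200802109000000210802100420080210040108443100210002108c20084000806208c00080c4004000840108401]
noncomputable def I0 (k u : ℕ) : ℕ := Nat.land (Nat.shiftRight (nth (nat_lit 0) I0d k) (Nat.mul u (nat_lit 5))) (nat_lit 31)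
noncomputable def D0d : ℕ := nat_lit 0xf6fd9f17b5ebface8fa1e6393e4782dfb69d775bd5754d4f51d033cc9b1cc6b15c5313c3b01bdaefbb2eab8edab56d2b3ecdb16b7ad6b3ab6aca428aa1683a0a809fa769be6d9866097a5692644906398e2338ba2b8aa298922287e1a85e1582e07819fb7e9f67c5ef7a9e9799e4785e0761d3745d0729c4709bf6e9ac6ada8699a3685a067d9a65d966498f6218660d815fd7e5f1755d16a5956257d5c55d555494d51943509404fd3d4f13a4dd354cd324c12d4b12a49d2247d1a45d134490f4350942106408fa3dcf63d4f33c0ef3b0ea39ce5390e3388db360d7358cf338cc328c7314c3304c02f8bb2e4b82d8b32c4af2b0ab2a4a82789a25c952509324490238872188520c822007f1f0771d8721bc6e1ac691a066194621805f168521404f1344c118421043f0f03a0d4340b82b0a4280982207c1d0701b0681604c120440f0380c02c090200600c00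
noncomputable def D0 (u : ℕ) : ℕ := Nat.land (Nat.shiftRight D0d (Nat.mul u (nat_lit 10))) (nat_lit 1023)
noncomputable def RL0 : List (List Rule) := [[.rel (nat_lit 0) (nat_lit 0) [nat_lit 1], .defn, .rel (nat_lit 14) (nat_lit 0) [nat_lit 3, nat_lit 0, nat_lit 3], .rel (nat_lit 14) (nat_lit 2) [nat_lit 3, nat_lit 0, nat_lit 3], .rel (nat_lit 8) (nat_lit 2) [nat_lit 0, nat_lit 0, nat_lit 0, nat_lit 0], .rel (nat_lit 8) (nat_lit 4) [nat_lit 0, nat_lit 0, nat_lit 0, nat_lit 0], .rel (nat_lit 10) (nat_lit 8) [nat_lit 2, nat_lit 0, nat_lit 2, nat_lit 0, nat_lit 2, nat_lit 0, nat_lit 2, nat_lit 0, nat_lit 2], .rel (nat_lit 8) (nat_lit 3) [nat_lit 0, nat_lit 0, nat_lit 0, nat_lit 0], .rel (nat_lit 10) (nat_lit 2) [nat_lit 2, nat_lit 0, nat_lit 2, nat_lit 0, nat_lit 2, nat_lit 0, nat_lit 2, nat_lit 0, nat_lit 2], .rel (nat_lit 18) (nat_lit 13) [nat_lit 2, nat_lit 3, nat_lit 2, nat_lit 3, nat_lit 0, nat_lit 0, nat_lit 2, nat_lit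 0, nat_lit 0, nat_lit 2, nat_lit 0, nat_lit 2, nat_lit 1, nat_lit 3, nat_lit 2, nat_lit 3, nat_lit 2], .rel (nat_lit 10) (nat_lit 4) [nat_lit 2, nat_lit 0, nat_lit 2, nat_lit 0, nat_lit 2, nat_lit 0, nat_lit 2, nat_lit 0, nat_lit 2], .rel (nat_lit 10) (nat_lit 6) [nat_lit 2, nat_lit 0, nat_lit 2, nat_lit 0, nat_lit 2, nat_lit 0, nat_lit 2, nat_lit 0, nat_lit 2], .rel (nat_lit 12) (nat_lit 5) [nat_lit 0, nat_lit 2, nat_lit 1, nat_lit 2, nat_lit 0, nat_lit 0, nat_lit 2, nat_lit 1, nat_lit 2, nat_lit 0, nat_lit 0, nat_lit 2, nat_lit 1, nat_lit 2], .rel (nat_lit 12) (nat_lit 10) [nat_lit 0, nat_lit 2, nat_lit 1, nat_lit 2, nat_lit 0, nat_lit 0, nat_lit 2, nat_lit 1, nat_lit 2, nat_lit 0, nat_lit 0, nat_lit 2, nat_lit 1, nat_lit 2], .rel (nat_lit 12) (nat_lit 11) [nat_lit 2, nat_lit 1, nat_lit 2, nat_lit 0, nat_lit 0, nat_lit 2, nat_lit 1, nat_lit 2, nat_lit 0, nat_lit 0, nat_lit 2, nat_lit 1, nat_lit 2, nat_lit 0], .rel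 (nat_lit 18) (nat_lit 4) [nat_lit 2, nat_lit 0, nat_lit 2, nat_lit 1, nat_lit 3, nat_lit 2, nat_lit 3, nat_lit 2, nat_lit 0, nat_lit 2, nat_lit 3, nat_lit 2, nat_lit 3, nat_lit 0, nat_lit 0, nat_lit 2, nat_lit 0], .sub (nat_lit 0) [] [], .rel (nat_lit 8) (nat_lit 1) [nat_lit 0, nat_lit 0, nat_lit 0, nat_lit 0], .rel (nat_lit 12) (nat_lit 0) [nat_lit 0, nat_lit 2, nat_lit 1, nat_lit 2, nat_lit 0, nat_lit 0, nat_lit 2, nat_lit 1, nat_lit 2, nat_lit 0, nat_lit 0, nat_lit 2, nat_lit 1, nat_lit 2], .rel (nat_lit 12) (nat_lit 1) [nat_lit 2, nat_lit 1, nat_lit 2, nat_lit 0, nat_lit 0, nat_lit 2, nat_lit 1, nat_lit 2, nat_lit 0, nat_lit 0, nat_lit 2, nat_lit 1, nat_lit 2, nat_lit 0], .rel (nat_lit 12) (nat_lit 6) [nat_lit 2, nat_lit 1, nat_lit 2, nat_lit 0, nat_lit 0, nat_lit 2, nat_lit 1, nat_lit 2, nat_lit 0, nat_lit 0, nat_lit 2, nat_lit 1, nat_lit 2, nat_lit 0], .rel (nat_lit 18) (nat_lit 1) [nat_lit 2, nat_lit 0, nat_lit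 0, nat_lit 2, nat_lit 0, nat_lit 2, nat_lit 1, nat_lit 3, nat_lit 2, nat_lit 3, nat_lit 2, nat_lit 0, nat_lit 2, nat_lit 3, nat_lit 2, nat_lit 3, nat_lit 0]],
  [.rel (nat_lit 2) (nat_lit 0) [nat_lit 0], .defn, .sub (nat_lit 2) [] [], .rel (nat_lit 12) (nat_lit 3) [nat_lit 2, nat_lit 0, nat_lit 0, nat_lit 2, nat_lit 1, nat_lit 2, nat_lit 0, nat_lit 0, nat_lit 2, nat_lit 1, nat_lit 2, nat_lit 0, nat_lit 0, nat_lit 2], .rel (nat_lit 12) (nat_lit 8) [nat_lit 2, nat_lit 0, nat_lit 0, nat_lit 2, nat_lit 1, nat_lit 2, nat_lit 0, nat_lit 0, nat_lit 2, nat_lit 1, nat_lit 2, nat_lit 0, nat_lit 0, nat_lit 2], .rel (nat_lit 18) (nat_lit 8) [nat_lit 3, nat_lit 2, nat_lit 3, nat_lit 2, nat_lit 0, nat_lit 2, nat_lit 3, nat_lit 2, nat_lit 3, nat_lit 0, nat_lit 0, nat_lit 2, nat_lit 0, nat_lit 0, nat_lit 2, nat_lit 0, nat_lit 2]],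
  [.rel (nat_lit 4) (nat_lit 0) [nat_lit 2], .defn, .rel (nat_lit 16) (nat_lit 6) [nat_lit 3, nat_lit 2, nat_lit 3, nat_lit 2, nat_lit 3, nat_lit 2, nat_lit 3, nat_lit 2, nat_lit 3], .rel (nat_lit 10) (nat_lit 5) [nat_lit 0, nat_lit 2, nat_lit 0, nat_lit 2, nat_lit 0, nat_lit 2, nat_lit 0, nat_lit 2, nat_lit 0], .rel (nat_lit 10) (nat_lit 3) [nat_lit 0, nat_lit 2, nat_lit 0, nat_lit 2, nat_lit 0, nat_lit 2, nat_lit 0, nat_lit 2, nat_lit 0], .rel (nat_lit 10) (nat_lit 1) [nat_lit 0, nat_lit 2, nat_lit 0, nat_lit 2, nat_lit 0, nat_lit 2, nat_lit 0, nat_lit 2, nat_lit 0], .rel (nat_lit 10) (nat_lit 7) [nat_lit 0, nat_lit 2, nat_lit 0, nat_lit 2, nat_lit 0, nat_lit 2, nat_lit 0, nat_lit 2, nat_lit 0], .rel (nat_lit 10) (nat_lit 9) [nat_lit 0, nat_lit 2, nat_lit 0, nat_lit 2, nat_lit 0, nat_lit 2, nat_lit 0, nat_lit 2, nat_lit 0], .rel (nat_lit 12) (nat_lit 14) [nat_lit 0, nat_lit 0, nat_lit 2, nat_lit 1, nat_lit 2, nat_lit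 0, nat_lit 0, nat_lit 2, nat_lit 1, nat_lit 2, nat_lit 0, nat_lit 0, nat_lit 2, nat_lit 1], .rel (nat_lit 12) (nat_lit 12) [nat_lit 1, nat_lit 2, nat_lit 0, nat_lit 0, nat_lit 2, nat_lit 1, nat_lit 2, nat_lit 0, nat_lit 0, nat_lit 2, nat_lit 1, nat_lit 2, nat_lit 0, nat_lit 0], .rel (nat_lit 16) (nat_lit 2) [nat_lit 3, nat_lit 2, nat_lit 3, nat_lit 2, nat_lit 3, nat_lit 2, nat_lit 3, nat_lit 2, nat_lit 3], .rel (nat_lit 16) (nat_lit 8) [nat_lit 3, nat_lit 2, nat_lit 3, nat_lit 2, nat_lit 3, nat_lit 2, nat_lit 3, nat_lit 2, nat_lit 3], .rel (nat_lit 12) (nat_lit 2) [nat_lit 1, nat_lit 2, nat_lit 0, nat_lit 0, nat_lit 2, nat_lit 1, nat_lit 2, nat_lit 0, nat_lit 0, nat_lit 2, nat_lit 1, nat_lit 2, nat_lit 0, nat_lit 0], .rel (nat_lit 12) (nat_lit 4) [nat_lit 0, nat_lit 0, nat_lit 2, nat_lit 1, nat_lit 2, nat_lit 0, nat_lit 0, nat_lit 2, nat_lit 1, nat_lit 2, nat_lit 0, nat_lit 0, nat_lit 2, nat_lit 1], .rel (nat_lit 12)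 (nat_lit 7) [nat_lit 1, nat_lit 2, nat_lit 0, nat_lit 0, nat_lit 2, nat_lit 1, nat_lit 2, nat_lit 0, nat_lit 0, nat_lit 2, nat_lit 1, nat_lit 2, nat_lit 0, nat_lit 0], .sub (nat_lit 4) [] [], .rel (nat_lit 12) (nat_lit 9) [nat_lit 0, nat_lit 0, nat_lit 2, nat_lit 1, nat_lit 2, nat_lit 0, nat_lit 0, nat_lit 2, nat_lit 1, nat_lit 2, nat_lit 0, nat_lit 0, nat_lit 2, nat_lit 1], .rel (nat_lit 16) (nat_lit 0) [nat_lit 3, nat_lit 2, nat_lit 3, nat_lit 2, nat_lit 3, nat_lit 2, nat_lit 3, nat_lit 2, nat_lit 3], .rel (nat_lit 16) (nat_lit 4) [nat_lit 3, nat_lit 2, nat_lit 3, nat_lit 2, nat_lit 3, nat_lit 2, nat_lit 3, nat_lit 2, nat_lit 3], .rel (nat_lit 18) (nat_lit 14) [nat_lit 3, nat_lit 2, nat_lit 3, nat_lit 0, nat_lit 0, nat_lit 2, nat_lit 0, nat_lit 0, nat_lit 2, nat_lit 0, nat_lit 2, nat_lit 1, nat_lit 3, nat_lit 2, nat_lit 3, nat_lit 2, nat_lit 0]],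
  [.rel (nat_lit 6) (nat_lit 0) [nat_lit 3], .defn, .rel (nat_lit 14) (nat_lit 3) [nat_lit 0, nat_lit 3, nat_lit 0], .rel (nat_lit 14) (nat_lit 1) [nat_lit 0, nat_lit 3, nat_lit 0], .rel (nat_lit 16) (nat_lit 9) [nat_lit 2, nat_lit 3, nat_lit 2, nat_lit 3, nat_lit 2, nat_lit 3, nat_lit 2, nat_lit 3, nat_lit 2], .rel (nat_lit 16) (nat_lit 5) [nat_lit 2, nat_lit 3, nat_lit 2, nat_lit 3, nat_lit 2, nat_lit 3, nat_lit 2, nat_lit 3, nat_lit 2], .rel (nat_lit 16) (nat_lit 7) [nat_lit 2, nat_lit 3, nat_lit 2, nat_lit 3, nat_lit 2, nat_lit 3, nat_lit 2, nat_lit 3, nat_lit 2], .rel (nat_lit 18) (nat_lit 11) [nat_lit 2, nat_lit 0, nat_lit 2, nat_lit 3, nat_lit 2, nat_lit 3, nat_lit 0, nat_lit 0, nat_lit 2, nat_lit 0, nat_lit 0, nat_lit 2, nat_lit 0, nat_lit 2, nat_lit 1, nat_lit 3, nat_lit 2], .rel (nat_lit 18) (nat_lit 15) [nat_lit 2, nat_lit 3, nat_lit 0, nat_lit 0, nat_lit 2, nat_lit 0, nat_lit 0, nat_lit 2, nat_lit 0, nat_lit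 2, nat_lit 1, nat_lit 3, nat_lit 2, nat_lit 3, nat_lit 2, nat_lit 0, nat_lit 2], .rel (nat_lit 18) (nat_lit 9) [nat_lit 2, nat_lit 3, nat_lit 2, nat_lit 0, nat_lit 2, nat_lit 3, nat_lit 2, nat_lit 3, nat_lit 0, nat_lit 0, nat_lit 2, nat_lit 0, nat_lit 0, nat_lit 2, nat_lit 0, nat_lit 2, nat_lit 1], .rel (nat_lit 16) (nat_lit 1) [nat_lit 2, nat_lit 3, nat_lit 2, nat_lit 3, nat_lit 2, nat_lit 3, nat_lit 2, nat_lit 3, nat_lit 2], .rel (nat_lit 16) (nat_lit 3) [nat_lit 2, nat_lit 3, nat_lit 2, nat_lit 3, nat_lit 2, nat_lit 3, nat_lit 2, nat_lit 3, nat_lit 2]]]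
noncomputable def c0 : TCert := ⟨266, 4, 511, T0, I0, D0, [[nat_lit 0],
  [nat_lit 1],
  [nat_lit 2]], RL0⟩
noncomputable def Pt0 (u : ℕ) : ℕ := u
noncomputable def Q0 (u : ℕ) : ℕ := u
noncomputable def l0 : Lev := ⟨266, 4, D0, Pt0, Q0⟩
noncomputable def T1d : List ℕ := [nat_lit 0x5e0e97aa5de96c7606679a5a1a7e960a96465f69597a02878a55a95419d6952a1ca9509dee8704d8aa7fa53686b919ea7ca522946895e46fa5169434938f69a500a63a17ce60a4fa85ba4f2a769d2c774a4e2a73a156936a9c6934a9baa6da4caa6a859a930a4be65ca126a65a4acb5ea98692aa10a928a976927a96aa58a49a83b4d2a923a94ea519cb6a4fa47ea4ca0ce91da472a47a46e821a912919a906a3fa8f6916a8eaa39a8de914a8d6822a44aa315092a2ea8b290fa8a681aa436a25a05e90ba882a1ea42a811a422a18a41ea15a84e905a842a0ea832903a826806a406a04a80aa00,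
  nat_lit 0x620e47b71fdd77a5b197c61e696899bea829dfa776aa0695815cc656a552771a54676e8d9294fa53aa809daa94c3982a7d8da604ba51aa7a257926da50cd5c9d74a44a4fe5489d6a93da9e293c8d96a759d4ea74a4dea72a4daa70a4d1161a9ae932a15d2399d1ea67a4baa66a98e92ba98a741a4a6a5fa4a2a5ba49ea599cea925a492a55a48ea52a486a509cc6a4da47aa4aa92691c98d691ba916a42a466a40a8faa3ba45931da8e27209cb2913a8ce912a8c2a2fa8b6718a8aa90e9c56a26a432a22a42ea1f9c42909a86a908a85e907a852a11a416a0fa836704a82a902a81a901a80ea00,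
  nat_lit 0xa5f608071fdf826e0696baa0e676a59a765a568172a56277c95b487111b807825d0352a53c57399d694da9f8e5da52a9492946a7ba1ea9452588863417e9403d8693f35aa93e3112a798d56a77a4ee93a916693798e42702d9cb47a9be933a9b2441a4c6a69a9a292e314292ca990d5ba4aa5308d32a60a97aa5c54be926a95ea56954e725a9529229cb6920a93a91ea92e64258f6a4898d6a46a46aa43a07e918a45ea3ca0e2915a452a36a44ea349ca6a32a446910a43ea2ba43aa28a89e90ca892a23a88690aa876a1ca86ea199c26a16a41aa12a036904a40ea0ba40aa08a81ea05a402a01]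
noncomputable def T1 (k u : ℕ) : ℕ := Nat.land (Nat.shiftRight (nth (nat_lit 0) T1d k) (Nat.mul u (nat_lit 14))) (nat_lit 16383)
noncomputable def I1d : List ℕ := [nat_lit 0x40057030a2004020527102d10004004c092202010601201011013005210b10201011023011310120010610111011101201511012012011020101101110120118,
  nat_lit 0x400000000150100000000001000100010000000000102101010100102001011010010101000101010101100011011100100010111010010101001010110110101013,
  nat_lit 0x390001000020700003302401200012080a0000001010030705010120110601500011100110010401016410101200120010101000101101110111101012001011101]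
noncomputable def I1 (k u : ℕ) : ℕ := Nat.land (Nat.shiftRight (nth (nat_lit 0) I1d k) (Nat.mul u (nat_lit 4))) (nat_lit 15)
noncomputable def D1d : ℕ := nat_lit 0xbcdbecd45a250e73389a4b6210c8542206fd7e3dde6f177bb5d4e974391c0dd6cb4da4d16832992c260afd7abc5dadd6ab459ac152a752a8d449d4e26d2e964aa451c8c452190481401fcf6793c1d8ea74399bcd86a349a0c6622f170b4582a950a45128130964a2390c84411f0f476391b8d86a32178b8582a140984822108803e1b0c8602c150a0401e0e0582810060200c0400
noncomputable def D1 (u : ℕ) : ℕ := Nat.land (Nat.shiftRight D1d (Nat.mul u (nat_lit 9))) (nat_lit 511)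
noncomputable def RL1 : List (List Rule) := [[.rel (nat_lit 0) (nat_lit 0) [nat_lit 1], .defn, .rel (nat_lit 8) (nat_lit 4) [nat_lit 0, nat_lit 0, nat_lit 0, nat_lit 0], .rel (nat_lit 8) (nat_lit 2) [nat_lit 0, nat_lit 0, nat_lit 0, nat_lit 0], .rel (nat_lit 8) (nat_lit 3) [nat_lit 0, nat_lit 0, nat_lit 0, nat_lit 0], .rel (nat_lit 10) (nat_lit 6) [nat_lit 2, nat_lit 0, nat_lit 2, nat_lit 0, nat_lit 2, nat_lit 0, nat_lit 2, nat_lit 0, nat_lit 2], .rel (nat_lit 12) (nat_lit 1) [nat_lit 2, nat_lit 1, nat_lit 2, nat_lit 0, nat_lit 0, nat_lit 2, nat_lit 1, nat_lit 2, nat_lit 0, nat_lit 0, nat_lit 2, nat_lit 1, nat_lit 2, nat_lit 0], .rel (nat_lit 12) (nat_lit 10) [nat_lit 0, nat_lit 2, nat_lit 1, nat_lit 2, nat_lit 0, nat_lit 0, nat_lit 2, nat_lit 1, nat_lit 2, nat_lit 0, nat_lit 0, nat_lit 2, nat_lit 1, nat_lit 2], .sub (nat_lit 0) [] [], .rel (nat_lit 8) (nat_lit 1) [nat_lit 0, nat_lit 0, nat_lit 0, nat_lit 0], .rel (nat_lit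 10) (nat_lit 0) [nat_lit 2, nat_lit 0, nat_lit 2, nat_lit 0, nat_lit 2, nat_lit 0, nat_lit 2, nat_lit 0, nat_lit 2], .rel (nat_lit 10) (nat_lit 2) [nat_lit 2, nat_lit 0, nat_lit 2, nat_lit 0, nat_lit 2, nat_lit 0, nat_lit 2, nat_lit 0, nat_lit 2], .rel (nat_lit 10) (nat_lit 4) [nat_lit 2, nat_lit 0, nat_lit 2, nat_lit 0, nat_lit 2, nat_lit 0, nat_lit 2, nat_lit 0, nat_lit 2], .rel (nat_lit 12) (nat_lit 5) [nat_lit 0, nat_lit 2, nat_lit 1, nat_lit 2, nat_lit 0, nat_lit 0, nat_lit 2, nat_lit 1, nat_lit 2, nat_lit 0, nat_lit 0, nat_lit 2, nat_lit 1, nat_lit 2]],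
  [.rel (nat_lit 2) (nat_lit 0) [nat_lit 0], .defn, .rel (nat_lit 12) (nat_lit 13) [nat_lit 2, nat_lit 0, nat_lit 0, nat_lit 2, nat_lit 1, nat_lit 2, nat_lit 0, nat_lit 0, nat_lit 2, nat_lit 1, nat_lit 2, nat_lit 0, nat_lit 0, nat_lit 2], .sub (nat_lit 2) [] [], .rel (nat_lit 12) (nat_lit 3) [nat_lit 2, nat_lit 0, nat_lit 0, nat_lit 2, nat_lit 1, nat_lit 2, nat_lit 0, nat_lit 0, nat_lit 2, nat_lit 1, nat_lit 2, nat_lit 0, nat_lit 0, nat_lit 2], .rel (nat_lit 12) (nat_lit 8) [nat_lit 2, nat_lit 0, nat_lit 0, nat_lit 2, nat_lit 1, nat_lit 2, nat_lit 0, nat_lit 0, nat_lit 2, nat_lit 1, nat_lit 2, nat_lit 0, nat_lit 0, nat_lit 2]],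
  [.rel (nat_lit 4) (nat_lit 0) [nat_lit 2], .defn, .rel (nat_lit 10) (nat_lit 9) [nat_lit 0, nat_lit 2, nat_lit 0, nat_lit 2, nat_lit 0, nat_lit 2, nat_lit 0, nat_lit 2, nat_lit 0], .rel (nat_lit 10) (nat_lit 3) [nat_lit 0, nat_lit 2, nat_lit 0, nat_lit 2, nat_lit 0, nat_lit 2, nat_lit 0, nat_lit 2, nat_lit 0], .rel (nat_lit 10) (nat_lit 5) [nat_lit 0, nat_lit 2, nat_lit 0, nat_lit 2, nat_lit 0, nat_lit 2, nat_lit 0, nat_lit 2, nat_lit 0], .rel (nat_lit 10) (nat_lit 7) [nat_lit 0, nat_lit 2, nat_lit 0, nat_lit 2, nat_lit 0, nat_lit 2, nat_lit 0, nat_lit 2, nat_lit 0], .rel (nat_lit 12) (nat_lit 9) [nat_lit 0, nat_lit 0, nat_lit 2, nat_lit 1, nat_lit 2, nat_lit 0, nat_lit 0, nat_lit 2, nat_lit 1, nat_lit 2, nat_lit 0, nat_lit 0, nat_lit 2, nat_lit 1], .rel (nat_lit 12) (nat_lit 12) [nat_lit 1, nat_lit 2, nat_lit 0, nat_lit 0, nat_lit 2, nat_lit 1, nat_lit 2, nat_lit 0, nat_lit 0, nat_lit 2, nat_lit 1, nat_lit 2, nat_lit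 0, nat_lit 0], .rel (nat_lit 10) (nat_lit 1) [nat_lit 0, nat_lit 2, nat_lit 0, nat_lit 2, nat_lit 0, nat_lit 2, nat_lit 0, nat_lit 2, nat_lit 0], .rel (nat_lit 12) (nat_lit 2) [nat_lit 1, nat_lit 2, nat_lit 0, nat_lit 0, nat_lit 2, nat_lit 1, nat_lit 2, nat_lit 0, nat_lit 0, nat_lit 2, nat_lit 1, nat_lit 2, nat_lit 0, nat_lit 0], .rel (nat_lit 12) (nat_lit 4) [nat_lit 0, nat_lit 0, nat_lit 2, nat_lit 1, nat_lit 2, nat_lit 0, nat_lit 0, nat_lit 2, nat_lit 1, nat_lit 2, nat_lit 0, nat_lit 0, nat_lit 2, nat_lit 1]]]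
noncomputable def c1 : TCert := ⟨132, 3, 255, T1, I1, D1, [[nat_lit 0],
  [nat_lit 1]], RL1⟩
noncomputable def Pt1d : ℕ := nat_lit 0xf3e9fbf0efcac9e7bbcb8ed9d7d685bfbecdccc1a9a850c5c48cc2b9b781aa905e8451a6873a996b3458a1a0829c96949392918f70308a574f887e7c7b715a226c56336f62403f68676563605f5d5b591c552f534d4c454437411f43253d3c3b393836351132312e2a29282716242321201e1d1b1918151413100f0d0a09070604030201
noncomputable def Pt1 (u : ℕ) : ℕ := Nat.land (Nat.shiftRight Pt1d (Nat.mul u (nat_lit 8))) (nat_lit 255)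
noncomputable def Q1d : ℕ := nat_lit 0x8100000000000000830000807f000000000082007c0000000000000000000000000078007776000000000000000072717a7e7d0000006c6b00697000747300007b00680067000000000000000000000000656f6e00600000000059580000005600005d0000550054535251645079006a004d004a5f007562005766000049004847000000000000000000464f400000435c00003c3b003a00393f0038376336003545345a4c4232003000616d4b002f2e0000000000002d2c28002a3e3d002625245e23222b21205b411e1d4e311c0000001b1a1918002716154414132912113310000f0e00170d0c0b001f0a09000800000706000504000302010000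
noncomputable def Q1 (u : ℕ) : ℕ := Nat.land (Nat.shiftRight Q1d (Nat.mul u (nat_lit 8))) (nat_lit 255)
noncomputable def l1 : Lev := ⟨132, 3, D1, Pt1, Q1⟩
noncomputable def T2d : List ℕ := [nat_lit 0x1264379,
  nat_lit 0x38f21a]
noncomputable def T2 (k u : ℕ) : ℕ := Nat.land (Nat.shiftRight (nth (nat_lit 0) T2d k) (Nat.mul u (nat_lit 5))) (nat_lit 31)
noncomputable def I2d : List ℕ := [nat_lit 0x85,
  nat_lit 0x11]
noncomputable def I2 (k u : ℕ) : ℕ := Nat.land (Nat.shiftRight (nth (nat_lit 0) I2d k) (Nat.mul u (nat_lit 2))) (nat_lit 3)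
noncomputable def D2d : ℕ := nat_lit 0x5440
noncomputable def D2 (u : ℕ) : ℕ := Nat.land (Nat.shiftRight D2d (Nat.mul u (nat_lit 3))) (nat_lit 7)
noncomputable def RL2 : List (List Rule) := [[.rel (nat_lit 0) (nat_lit 0) [nat_lit 1], .defn, .rel (nat_lit 8) (nat_lit 4) [nat_lit 0, nat_lit 0, nat_lit 0, nat_lit 0]],
  [.rel (nat_lit 2) (nat_lit 0) [nat_lit 0], .defn]]
noncomputable def c2 : TCert := ⟨5, 2, 7, T2, I2, D2, [], RL2⟩
noncomputable def Pt2d : ℕ := nat_lit 0x94bfbe9c85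
noncomputable def Pt2 (u : ℕ) : ℕ := Nat.land (Nat.shiftRight Pt2d (Nat.mul u (nat_lit 8))) (nat_lit 255)
noncomputable def Q2d : ℕ := nat_lit 0x680000000000000000000000001000004000000000000000000000000000000000000000000000000000000000000000000000000000000000000000000000000000000000000000
noncomputable def Q2 (u : ℕ) : ℕ := Nat.land (Nat.shiftRight Q2d (Nat.mul u (nat_lit 3))) (nat_lit 7)
noncomputable def l2 : Lev := ⟨5, 2, D2, Pt2, Q2⟩
noncomputable def B : List ℕ := [nat_lit 0, nat_lit 1, nat_lit 133]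
noncomputable def L : List Lev := [l0, l1, l2]
noncomputable def Rs : List Root := [⟨(nat_lit 1), [[nat_lit 3],
  [nat_lit 3]], [((nat_lit 5), [nat_lit 4]),
  ((nat_lit 3), [nat_lit 4])]⟩,
  ⟨(nat_lit 5), [[nat_lit 3, nat_lit 2, nat_lit 3],
  [nat_lit 3, nat_lit 2, nat_lit 3]], [((nat_lit 5), [nat_lit 4]),
  ((nat_lit 3), [nat_lit 2, nat_lit 4, nat_lit 2, nat_lit 4, nat_lit 2])]⟩,
  ⟨(nat_lit 38), [[nat_lit 3, nat_lit 2, nat_lit 1, nat_lit 3, nat_lit 2, nat_lit 3],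
  [nat_lit 3, nat_lit 2, nat_lit 3, nat_lit 0, nat_lit 2, nat_lit 3]], [((nat_lit 5), [nat_lit 4]),
  ((nat_lit 3), [nat_lit 0, nat_lit 0, nat_lit 2, nat_lit 0, nat_lit 2, nat_lit 0, nat_lit 0, nat_lit 2, nat_lit 4, nat_lit 2, nat_lit 4, nat_lit 2, nat_lit 0, nat_lit 0, nat_lit 2, nat_lit 4, nat_lit 2, nat_lit 1, nat_lit 2])]⟩,
  ⟨(nat_lit 45), [[nat_lit 3, nat_lit 2, nat_lit 0, nat_lit 0, nat_lit 3, nat_lit 2, nat_lit 3],
  [nat_lit 3, nat_lit 2, nat_lit 3, nat_lit 1, nat_lit 1, nat_lit 2, nat_lit 3]], [((nat_lit 5), [nat_lit 4]),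
  ((nat_lit 3), [nat_lit 0, nat_lit 0, nat_lit 2, nat_lit 0, nat_lit 0, nat_lit 2, nat_lit 1, nat_lit 1, nat_lit 2, nat_lit 1, nat_lit 4, nat_lit 0, nat_lit 2, nat_lit 4, nat_lit 2, nat_lit 1, nat_lit 1, nat_lit 2])]⟩]
noncomputable def Fod : ℕ := nat_lit 0x8c59f0b7b51ec87bddacc6bf9ab97ac9f075ab5aa26ae1694aa19aab5a95e7f7bea2ea5a7166db975a556952a50a93d6596bb16415ab1adfb989630a8ada24488121e5a9d21a48516b0682121f680921259ddaf49791de7978a5e06badeb357bd2156831ade4865e9e96de5b3a6c6a4ea8b11a8568d5a1968259f566e59a96b919496f65bc662520fa61517d95f121095d562e35c0d6f35b4d6b35a4d68358969a5969d5c5a56553954a550353254f47d521858d5a5684e61387a059ea877613159d920d9499d255672121692611f8476118845e510843250a359e505469e10043fa0fa9538d47975654558d213795514ec35860e858aa0e683908e223848e023788da2365a076605a03833a10b83288c7231a0c583095ed67adcb972e1ddc72d10fd72c60c96719cac72ae50f72a9980728a0a672860bd83fe0c47260d637250d4b9512490823d17e722dc8a122448752144885205d5e71fdc7e71dc47471e5c7071bd94061b586c61ae528619586471f586261820c1817585a61660567259853001104f413984d613184a6120003611143e50f20a550e943971e143250c5c3450b4c2c50a1427208d440407d01e4074821616d01640548194050411103cc0e3034410302cc09000880720184050004000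
noncomputable def Fo (u : ℕ) : ℕ := Nat.land (Nat.shiftRight Fod (Nat.mul u (nat_lit 14))) (nat_lit 16383)
noncomputable def nx : List ℕ := [nat_lit 2, nat_lit 3, nat_lit 0]
noncomputable def nL : List (List ℕ × ℕ) := [([nat_lit 3, nat_lit 2, nat_lit 0, nat_lit 2], (nat_lit 5)),
  ([nat_lit 1, nat_lit 2, nat_lit 0, nat_lit 2], (nat_lit 5)),
  ([nat_lit 0, nat_lit 2, nat_lit 0], (nat_lit 2)),
  ([], (nat_lit 4))]

theorem tc0e_a : allZ2 (entryChk T0 (selR RL0 I0) D0 (nat_lit 511) (nat_lit 266) (nat_lit 4)) (nat_lit 4) (nat_lit 266) = true := by decide +kernel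
theorem tc0r : rulesChk Rl c0.Sl RL0 (nat_lit 4) = true := by decide +kernel
theorem ivc : ivChk Rl (nat_lit 4) = true := by decide +kernel
theorem lv0e_0 : allZ (l0.ent P) (nat_lit 0) (nat_lit 265) = true := by decide +kernel
theorem lv0b : Nat.blt (Pt0 (nat_lit 0)) (nat_lit 266) = true ∧ Q0 (Pt0 (nat_lit 0)) = 0 ∧ Pt0 (nat_lit 0) = 0 := by decide +kernel
theorem sb0 : allL (ltAll (nat_lit 3)) c0.Sl = true ∧ fixLetters P (nat_lit 3) (Pt0 (nat_lit 0)) = true := by decide +kernel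
theorem tc1e_a : allZ2 (entryChk T1 (selR RL1 I1) D1 (nat_lit 255) (nat_lit 132) (nat_lit 3)) (nat_lit 3) (nat_lit 132) = true := by decide +kernel
theorem tc1r : rulesChk Rl c1.Sl RL1 (nat_lit 3) = true := by decide +kernel
theorem lv1e_0 : allZ (l1.ent P) (nat_lit 0) (nat_lit 131) = true := by decide +kernel
theorem lv1b : Nat.blt (Pt1 (nat_lit 0)) (nat_lit 266) = true ∧ Q1 (Pt1 (nat_lit 0)) = 0 ∧ Pt1 (nat_lit 0) = 1 := by decide +kernel
theorem sb1 : allL (ltAll (nat_lit 2)) c1.Sl = true ∧ fixLetters P (nat_lit 2) (Pt1 (nat_lit 0)) = true := by decide +kernel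
theorem tc2e_a : allZ2 (entryChk T2 (selR RL2 I2) D2 (nat_lit 7) (nat_lit 5) (nat_lit 2)) (nat_lit 2) (nat_lit 5) = true := by decide +kernel
theorem tc2r : rulesChk Rl c2.Sl RL2 (nat_lit 2) = true := by decide +kernel
theorem lv2e_0 : allZ (l2.ent P) (nat_lit 0) (nat_lit 4) = true := by decide +kernel
theorem lv2b : Nat.blt (Pt2 (nat_lit 0)) (nat_lit 266) = true ∧ Q2 (Pt2 (nat_lit 0)) = 0 ∧ Pt2 (nat_lit 0) = 133 := by decide +kernel
theorem sb2 : allL (ltAll (nat_lit 0)) c2.Sl = true ∧ fixLetters P (nat_lit 0) (Pt2 (nat_lit 0)) = true := by decide +kernel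
theorem Blt : ltAll (nat_lit 266) B = 0 := by decide +kernel
theorem ivk : ivLt Rl (nat_lit 4) = true := by decide +kernel
theorem pe_a : allZ2 (permEnt P (ivOf Rl) (nat_lit 266)) (nat_lit 4) (nat_lit 266) = true := by decide +kernel
theorem rf0 : allL (fixRange P (nat_lit 4) (nat_lit 0) (nat_lit 266)) (Rl.drop (nat_lit 4)) = true := by decide +kernel
theorem Foe_0 : allZ (forEnt P Fo (nat_lit 3) (nat_lit 1023) (nat_lit 266) ((nat_lit 0) :: Rs.map Root.r)) (nat_lit 0) (nat_lit 266) = true := by decide +kernel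
theorem rtc : allL (Root.chk P (nat_lit 4) B (nat_lit 3) (nat_lit 0)) Rs = true ∧ fixLetters P (nat_lit 3) (nat_lit 0) = true := by decide +kernel
theorem nc1 : allZ (fun k => force k (nclEnt P Rl (nat_lit 4) B nx nL)) 0 (nat_lit 4) = true := by decide +kernel
theorem nc2 : powL P (nat_lit 4) B nx (nat_lit 19) = 0 := by decide +kernel

theorem tc0e : ∀ k < 4, ∀ i < 266, (entryChk T0 (selR RL0 I0) D0 (nat_lit 511) (nat_lit 266) (nat_lit 4)) k i = 0 := allZ2_sound tc0e_a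
theorem tc0 : c0.OK Rl 4 := ⟨by decide, by decide, by decide, ivc, tc0r, tc0e⟩
theorem lv0e : ∀ i < 265, (l0.ent P) i = 0 := allZ_sound0 lv0e_0
theorem lv0 : l0.OK P 266 := ⟨by decide, by decide, lt_of_blt lv0b.1, lv0b.2.1, lv0e⟩
theorem tc1e : ∀ k < 3, ∀ i < 132, (entryChk T1 (selR RL1 I1) D1 (nat_lit 255) (nat_lit 132) (nat_lit 3)) k i = 0 := allZ2_sound tc1e_a
theorem tc1 : c1.OK Rl 4 := ⟨by decide, by decide, by decide, ivc, tc1r, tc1e⟩
theorem lv1e : ∀ i < 131, (l1.ent P) i = 0 := allZ_sound0 lv1e_0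
theorem lv1 : l1.OK P 266 := ⟨by decide, by decide, lt_of_blt lv1b.1, lv1b.2.1, lv1e⟩
theorem tc2e : ∀ k < 2, ∀ i < 5, (entryChk T2 (selR RL2 I2) D2 (nat_lit 7) (nat_lit 5) (nat_lit 2)) k i = 0 := allZ2_sound tc2e_a
theorem tc2 : c2.OK Rl 4 := ⟨by decide, by decide, by decide, ivc, tc2r, tc2e⟩
theorem lv2e : ∀ i < 4, (l2.ent P) i = 0 := allZ_sound0 lv2e_0
theorem lv2 : l2.OK P 266 := ⟨by decide, by decide, lt_of_blt lv2b.1, lv2b.2.1, lv2e⟩
theorem bound2 : Bound Rl 2 5 := Bound.step' (Bound.zero Rl) tc2 sb2.1 (by decide +kernel)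
theorem bound1 : Bound Rl 3 660 := Bound.step' (bound2) tc1 sb1.1 (by decide +kernel)
theorem bound0 : Bound Rl 4 175560 := Bound.step' (bound1) tc0 sb0.1 (by decide +kernel)
/-- every tuple satisfying `Rl` generates a group of order at most `175560` -/
theorem bound : Bound Rl 4 175560 := bound0
theorem chain_of {G Ω : Type*} [Group G] [MulAction G Ω] {g : ℕ → G} {pt : ℕ → Ω}
    (h : Act g pt P 266 4) (hR : Rels g Rl) : IsChain g pt 266 L :=
  IsChain.cons (L := [l1, l2]) (IsChain.cons (L := [l2]) (IsChain.cons (L := []) (trivial) h hR tc2 lv2 rfl rfl rfl (by decide) sb2.1 sb2.2) h hR tc1 lv1 rfl rfl rfl (by decide) sb1.1 sb1.2) h hR tc0 lv0 rfl rfl rfl (by decide) sb0.1 sb0.2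
theorem base_eq : chainBase L = B := by decide +kernel
theorem pe : ∀ k < 4, ∀ i < 266, (permEnt P (ivOf Rl) (nat_lit 266)) k i = 0 := allZ2_sound pe_a
/-- the letters -/
noncomputable def g : ℕ → Equiv.Perm (Fin 266) := permGen 266 P
theorem act : Act g (ptF 266) P 266 4 := act_permGen pe
theorem rels : Rels g Rl :=
  rels_perm pe ivc ivk (FixUpTo.first rf0)
theorem chain : IsChain g (ptF 266) 266 L := chain_of act rels
theorem card : Nat.card (gen g 4) = 175560 := chain.card' (ptF_inj 266) (by decide +kernel)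
theorem isBase : IsBase (gen g 4) (ptF 266) B := base_eq ▸ chain.isBase (ptF_inj 266)
theorem Foe : ∀ i < 266, (forEnt P Fo (nat_lit 3) (nat_lit 1023) (nat_lit 266) ((nat_lit 0) :: Rs.map Root.r)) i = 0 := allZ_sound0 Foe_0
theorem maxCert_of' {G Ω : Type*} [Group G] [MulAction G Ω] {g : ℕ → G} {pt : ℕ → Ω}
    (h : Act g pt P 266 4) (hb : IsBase (gen g 4) pt B) : MaxCert g pt 266 4 3 0 :=
  maxCert_of h Blt hb (by decide) Foe rtc.2 rtc.1
theorem maxCert : MaxCert g (ptF 266) 266 l0.K (topK [l1, l2]) (l0.Pt 0) :=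
  lv0b.2.2 ▸ maxCert_of' act isBase
theorem simple : IsSimpleGroup (gen g 4) :=
  simple_of_cert (l := l0) (L := [l1, l2]) chain (ptF_inj 266) maxCert Blt isBase
    (evA_mem_gen g (powL_eq_one act Blt isBase nc2).1) (powL_eq_one act Blt isBase nc2).2
    (by decide +kernel) (by decide) fun _ hA hx => ncl_sound act Blt isBase rels ivc nc1 le_rfl hA hx

end H16.J1
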