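import Cfsg.Agent.H16.Slp

/-! Generated by tools/h16 (computation kit). -/

set_option maxRecDepth 100000
set_option maxHeartbeats 0

namespace H16.S44

noncomputable def Rl : List (List ℕ) := [[nat_lit 0, nat_lit 1],
  [nat_lit 1, nat_lit 0],
  [nat_lit 2, nat_lit 2],
  [nat_lit 3, nat_lit 4],
  [nat_lit 4, nat_lit 3],
  [nat_lit 5, nat_lit 5],
  [nat_lit 6, nat_lit 6],
  [nat_lit 0, nat_lit 0, nat_lit 0],
  [nat_lit 0, nat_lit 2, nat_lit 0, nat_lit 2, nat_lit 0, nat_lit 2],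
  [nat_lit 3, nat_lit 3, nat_lit 3],
  [nat_lit 0, nat_lit 3, nat_lit 1, nat_lit 4],
  [nat_lit 2, nat_lit 3, nat_lit 2, nat_lit 4, nat_lit 2, nat_lit 3, nat_lit 2, nat_lit 4],
  [nat_lit 0, nat_lit 2, nat_lit 1, nat_lit 3, nat_lit 2, nat_lit 0, nat_lit 4, nat_lit 2, nat_lit 3, nat_lit 1, nat_lit 2, nat_lit 4],
  [nat_lit 2, nat_lit 5, nat_lit 2, nat_lit 5, nat_lit 2, nat_lit 5],
  [nat_lit 0, nat_lit 2, nat_lit 5, nat_lit 2, nat_lit 3, nat_lit 5, nat_lit 2, nat_lit 5],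
  [nat_lit 0, nat_lit 6, nat_lit 0, nat_lit 6],
  [nat_lit 3, nat_lit 6, nat_lit 4, nat_lit 6],
  [nat_lit 5, nat_lit 6, nat_lit 5, nat_lit 6],
  [nat_lit 2, nat_lit 6, nat_lit 2, nat_lit 6, nat_lit 2, nat_lit 6, nat_lit 2, nat_lit 6],
  [nat_lit 0, nat_lit 2, nat_lit 6, nat_lit 2, nat_lit 0, nat_lit 4, nat_lit 2, nat_lit 5, nat_lit 6, nat_lit 2, nat_lit 0, nat_lit 4, nat_lit 2, nat_lit 6, nat_lit 2, nat_lit 4]]
noncomputable def Pd : List ℕ := [nat_lit 0x499141ec0a8c1635710a7c5551e9bb950e8d24cfe0bc513662b44ddca19cbda33407d73a97194c432f92a434d98b25a9cb943654f0f24591912674e0c161828830386900e28482080c080,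
  nat_lit 0x4f8b020d292cdd39570ea538caa4288529ed07c9a8bc88b1acb6c8a63160810ce64b4fcd711d4bb3cfd2a42adda2f5c64911368d38b3a58d1c265ca0830284901e1828c0e386830410080,
  nat_lit 0x54914a0d09f3a54c5f364d36cb94c24f128c064e12bc74edcbe5b1dab166fda309719b9e3a72299865dea4305099222b15aa36354234c585224280f900c24d0c0a547080e3c5830804100,
  nat_lit 0x47a945f3d8cb9a366b29549a7167ba8709341a149fa59ac513996adbbb5b3a21f60c90219921e2c3d0149646e14335e6481d486938f186ca97262091c1610714300c5110e0830d1214080,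
  nat_lit 0x538efa93f8ac9dab6f2a42aa93e331870a0267b468296911c226b325cd40b9d2f3f399a86d252a13305e1b46e562d609ce102c68f0b2890a8c264441d30342171e241920e1410e1418080,
  nat_lit 0x54a74a8b86d3a2ad96aa4498ece6bd869a04160fa22756897d06f3daa08cc8fbf72ba62c7728e287908b9846e90b46240a291a686244a28a9d104491e0824d990658713041430f161c080,
  nat_lit 0x51a54ea457b39c31590a0c07cfe836872a4c88d1e7a444ada4d51110b960ca63340b8fcb7498db730a8b3c46edaaf5a3c70d52545a71494d090e182843c74e03325ca0226488901820001]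
noncomputable def P (k u : ℕ) : ℕ := Nat.land (Nat.shiftRight (nth (nat_lit 0) Pd k) (Nat.mul u (nat_lit 7))) (nat_lit 127)
noncomputable def T0d : List ℕ := [nat_lit 0x374983222d0def63405753730deb01b596e1b42553e045deab747e14c13b6f2a043c1476d2de9b73fc3067bc06a1b4d893262bde8b73708e71a16739cafc8d1933708379fdcb9abae12f846a6a7844dc6783ea296b24be6b836cac7832e0b71a7d65f494a86ef15c47b20fd24ac16e08f391d64f51dcc7368cca2f086ca17708e06360ed437610d81f10ac827782dc13803dc07800,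
  nat_lit 0x154fdf17740bf0625253259336aea1b9deadb43db52053db1b7aa7f237a87f09acac0f62d0dafb7a6e14673c0311a2c06d654bdadb7a205331b162c37a0c8876ce70cb6adde7f84d96e3847a4a413bc47b83fa096aa4de57837c4d1bafe0bb099d24b291a66ef23da9f78bd476b96ba6b41cd44f417cc53588c66358ad227610c83f186c61768cd61f00ec837683de0b804da07800,
  nat_lit 0x21547f21d529f065d0613d8ce6f2a1cc6ebdc4d8725f53c6db2aedea60c2de9e044a145dc0ceca6b8de9633c02e803b72e673ecab7147d8d72b1d8cf43fccd34b06d2f246ccdf79ede7779ce117799e10f797e0f6aa4c263794de4f792de4782ce0af82ab26f78de0a3023e09b016de2b822e087820e07e210d81ae89e06a18cce17815b83b708da1f58fd02f603da13781e00b800,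
  nat_lit 0x37c78752f51bafa43d5b1b7ae72d22b60ed59cadeab749894df455d3d9ba890dec2de9b7419343852c6ff7251b35931de8b739912e32b0cdc73b6ab5dce7d1379fdcc1e326c81da1e133848acf20acc07b840aaa7796ae8f83878a3833e0bf219dc4339db092d9abe9ee0fc632c9bb257617d44f708d84b31ccc2f784dc3b214ba63783dc2b591d81f782dc1b80de027805dc07800,
  nat_lit 0x21538b1f7bebb4a43f5b15d3218ef7ab92dda4adb237aae15164f7b19eb1870df42db037a6c4f6e518f42aa91ed1944dae37a20ad624c112dd4dde81dae62eb6afde7f84e68ce1288edb849a895ea1bc67841daf2b9bac8f83974b1aade0c2fa7d073290b05ad1ac67ae0bd653824b05718cd24f591d42369db66368dde13117ca3f689de0f692d61f685de0b80ee02b806da07800,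
  nat_lit 0x1554654dcd27d477b8ded96ce6b1592d6b2f7aa6721a495f1d8336d35fbd8b0f7a67901ec1cac253e7d12aa72eaf7a268bf85060df84fd6d77a05f1b1b2de7f23f66e572e63321ac2cef84adc72128a8f3842dc5eb98b68f83ad887834e0c7710b2536a9de36d1adc32b24da9778ac256c1ddc23391d04b69ede12d89e06f699de0f816b43b693de0b485d41b80fe02f807dc07800,
  nat_lit 0xf5141490d33f504c538f424e14e0b3112b1142510534044f833f1140db6430d1ca53253c80f191c73b3f7a4de88cab22d05cd06a0d44de8483908c01322f302b326801ae287c54b30e9226de6c237de612aade5b83c408f83be0d492f2ab778fde3b78de0a4f95de2f827de2b8253c6b789de1f786de17784e07b81de073783e067817e053782e04f812e047810e033808de03801]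
noncomputable def T0 (k u : ℕ) : ℕ := Nat.land (Nat.shiftRight (nth (nat_lit 0) T0d k) (Nat.mul u (nat_lit 14))) (nat_lit 16383)
noncomputable def I0d : List ℕ := [nat_lit 0x130003114143121a8433100760831010061431122527200826225550411162050456157200463431279,
  nat_lit 0x20000000000000000000010000000000000000101000100010010000000000000000000020000000103,
  nat_lit 0x6320882043a60320d0097000c904400f0425600200010101730000111501015011118a212010e5070201b,
  nat_lit 0x252220010001056560016364220100201260175133405310530334402712165444429015401260133348,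
  nat_lit 0x600000002200100002000000300000320000010521020100010010200000010000000000000000011104,
  nat_lit 0x1311001011001317930051306405272600300030302430245123224600140001040600120020000522248,
  nat_lit 0x22304000000000343735440023200000223220400020501611030001401010000001110111011111101]
noncomputable def I0 (k u : ℕ) : ℕ := Nat.land (Nat.shiftRight (nth (nat_lit 0) I0d k) (Nat.mul u (nat_lit 4))) (nat_lit 15)
noncomputable def D0d : ℕ := nat_lit 0x1f5f1ed7598dbfd1a6b3096cae552993c9a431889c3e1d0d85c2a0b027a3cde4f177bb9dae571b81bcdd6e369b2d466b1986b15728d409e49a390e803c9bcd06130174a64d2612c90451b8c05222108803e1b0d064301409848220f070240c00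
noncomputable def D0 (u : ℕ) : ℕ := Nat.land (Nat.shiftRight D0d (Nat.mul u (nat_lit 9))) (nat_lit 511)
noncomputable def RL0 : List (List Rule) := [[.rel (nat_lit 20) (nat_lit 0) [nat_lit 3, nat_lit 1, nat_lit 4], .rel (nat_lit 14) (nat_lit 2) [nat_lit 0, nat_lit 0], .defn, .rel (nat_lit 0) (nat_lit 0) [nat_lit 1], .rel (nat_lit 14) (nat_lit 1) [nat_lit 0, nat_lit 0], .rel (nat_lit 30) (nat_lit 2) [nat_lit 6, nat_lit 0, nat_lit 6], .rel (nat_lit 28) (nat_lit 0) [nat_lit 2, nat_lit 5, nat_lit 2, nat_lit 3, nat_lit 5, nat_lit 2, nat_lit 5], .rel (nat_lit 30) (nat_lit 0) [nat_lit 6, nat_lit 0, nat_lit 6], .rel (nat_lit 16) (nat_lit 2) [nat_lit 2, nat_lit 0, nat_lit 2, nat_lit 0, nat_lit 2], .sub (nat_lit 0) [] [], .rel (nat_lit 16) (nat_lit 0) [nat_lit 2, nat_lit 0, nat_lit 2, nat_lit 0, nat_lit 2]],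
  [.rel (nat_lit 2) (nat_lit 0) [nat_lit 0], .defn, .rel (nat_lit 20) (nat_lit 2) [nat_lit 4, nat_lit 0, nat_lit 3], .sub (nat_lit 2) [] []],
  [.rel (nat_lit 4) (nat_lit 0) [nat_lit 2], .defn, .rel (nat_lit 16) (nat_lit 3) [nat_lit 0, nat_lit 2, nat_lit 0, nat_lit 2, nat_lit 0], .rel (nat_lit 16) (nat_lit 5) [nat_lit 0, nat_lit 2, nat_lit 0, nat_lit 2, nat_lit 0], .rel (nat_lit 22) (nat_lit 6) [nat_lit 4, nat_lit 2, nat_lit 3, nat_lit 2, nat_lit 4, nat_lit 2, nat_lit 3], .rel (nat_lit 26) (nat_lit 4) [nat_lit 5, nat_lit 2, nat_lit 5, nat_lit 2, nat_lit 5], .rel (nat_lit 22) (nat_lit 4) [nat_lit 3, nat_lit 2, nat_lit 4, nat_lit 2, nat_lit 3, nat_lit 2, nat_lit 4], .rel (nat_lit 26) (nat_lit 2) [nat_lit 5, nat_lit 2, nat_lit 5, nat_lit 2, nat_lit 5], .rel (nat_lit 28) (nat_lit 6) [nat_lit 5, nat_lit 0, nat_lit 2, nat_lit 5, nat_lit 2, nat_lit 3, nat_lit 5], .rel (nat_lit 16) (nat_lit 1) [nat_lit 0, nat_lit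 2, nat_lit 0, nat_lit 2, nat_lit 0], .rel (nat_lit 28) (nat_lit 3) [nat_lit 3, nat_lit 5, nat_lit 2, nat_lit 5, nat_lit 0, nat_lit 2, nat_lit 5], .sub (nat_lit 4) [] [], .rel (nat_lit 22) (nat_lit 0) [nat_lit 3, nat_lit 2, nat_lit 4, nat_lit 2, nat_lit 3, nat_lit 2, nat_lit 4], .rel (nat_lit 28) (nat_lit 1) [nat_lit 5, nat_lit 2, nat_lit 3, nat_lit 5, nat_lit 2, nat_lit 5, nat_lit 0], .rel (nat_lit 36) (nat_lit 0) [nat_lit 6, nat_lit 2, nat_lit 6, nat_lit 2, nat_lit 6, nat_lit 2, nat_lit 6], .rel (nat_lit 36) (nat_lit 4) [nat_lit 6, nat_lit 2, nat_lit 6, nat_lit 2, nat_lit 6, nat_lit 2, nat_lit 6]],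
  [.rel (nat_lit 6) (nat_lit 0) [nat_lit 4], .rel (nat_lit 18) (nat_lit 2) [nat_lit 3, nat_lit 3], .rel (nat_lit 18) (nat_lit 1) [nat_lit 3, nat_lit 3], .defn, .rel (nat_lit 32) (nat_lit 0) [nat_lit 6, nat_lit 4, nat_lit 6], .rel (nat_lit 20) (nat_lit 1) [nat_lit 1, nat_lit 4, nat_lit 0], .rel (nat_lit 28) (nat_lit 4) [nat_lit 5, nat_lit 2, nat_lit 5, nat_lit 0, nat_lit 2, nat_lit 5, nat_lit 2], .rel (nat_lit 22) (nat_lit 5) [nat_lit 2, nat_lit 4, nat_lit 2, nat_lit 3, nat_lit 2, nat_lit 4, nat_lit 2], .sub (nat_lit 6) [] [], .rel (nat_lit 22) (nat_lit 1) [nat_lit 2, nat_lit 4, nat_lit 2, nat_lit 3, nat_lit 2, nat_lit 4, nat_lit 2]],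
  [.rel (nat_lit 8) (nat_lit 0) [nat_lit 3], .defn, .rel (nat_lit 20) (nat_lit 3) [nat_lit 0, nat_lit 3, nat_lit 1], .rel (nat_lit 32) (nat_lit 2) [nat_lit 6, nat_lit 3, nat_lit 6], .sub (nat_lit 8) [] [], .rel (nat_lit 22) (nat_lit 7) [nat_lit 2, nat_lit 3, nat_lit 2, nat_lit 4, nat_lit 2, nat_lit 3, nat_lit 2], .rel (nat_lit 24) (nat_lit 6) [nat_lit 2, nat_lit 3, nat_lit 1, nat_lit 2, nat_lit 4, nat_lit 0, nat_lit 2, nat_lit 1, nat_lit 3, nat_lit 2, nat_lit 0]],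
  [.rel (nat_lit 10) (nat_lit 0) [nat_lit 5], .rel (nat_lit 28) (nat_lit 2) [nat_lit 2, nat_lit 3, nat_lit 5, nat_lit 2, nat_lit 5, nat_lit 0, nat_lit 2], .defn, .rel (nat_lit 26) (nat_lit 3) [nat_lit 2, nat_lit 5, nat_lit 2, nat_lit 5, nat_lit 2], .rel (nat_lit 34) (nat_lit 0) [nat_lit 6, nat_lit 5, nat_lit 6], .rel (nat_lit 28) (nat_lit 5) [nat_lit 2, nat_lit 5, nat_lit 0, nat_lit 2, nat_lit 5, nat_lit 2, nat_lit 3], .rel (nat_lit 34) (nat_lit 2) [nat_lit 6, nat_lit 5, nat_lit 6], .rel (nat_lit 26) (nat_lit 5) [nat_lit 2, nat_lit 5, nat_lit 2, nat_lit 5, nat_lit 2], .sub (nat_lit 10) [] [], .rel (nat_lit 26) (nat_lit 1) [nat_lit 2, nat_lit 5, nat_lit 2, nat_lit 5, nat_lit 2]],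
  [.rel (nat_lit 12) (nat_lit 0) [nat_lit 6], .defn, .rel (nat_lit 32) (nat_lit 1) [nat_lit 4, nat_lit 6, nat_lit 3], .rel (nat_lit 34) (nat_lit 3) [nat_lit 5, nat_lit 6, nat_lit 5], .rel (nat_lit 30) (nat_lit 3) [nat_lit 0, nat_lit 6, nat_lit 0], .rel (nat_lit 32) (nat_lit 3) [nat_lit 3, nat_lit 6, nat_lit 4], .rel (nat_lit 36) (nat_lit 5) [nat_lit 2, nat_lit 6, nat_lit 2, nat_lit 6, nat_lit 2, nat_lit 6, nat_lit 2], .rel (nat_lit 38) (nat_lit 8) [nat_lit 2, nat_lit 0, nat_lit 4, nat_lit 2, nat_lit 6, nat_lit 2, nat_lit 4, nat_lit 0, nat_lit 2, nat_lit 6, nat_lit 2, nat_lit 0, nat_lit 4, nat_lit 2, nat_lit 5]]]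
noncomputable def c0 : TCert := ⟨85, 7, 127, T0, I0, D0, [[nat_lit 0],
  [nat_lit 1],
  [nat_lit 2],
  [nat_lit 3],
  [nat_lit 4],
  [nat_lit 5]], RL0⟩
noncomputable def Pt0 (u : ℕ) : ℕ := u
noncomputable def Q0 (u : ℕ) : ℕ := u
noncomputable def l0 : Lev := ⟨85, 7, D0, Pt0, Q0⟩
noncomputable def T1d : List ℕ := [nat_lit 0xcd502c52d6b06ed49c9c1a45d3ecba2aa899ee4c8703d0b40,
  nat_lit 0x4f2d24532ca44e4418faa2676b286916eb8aac4b8b21d0f40,
  nat_lit 0x24d8f8472a5c9ceca2a641f508174d3ae8c8a721a8ac3d1340,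
  nat_lit 0xcb8523ccd05b111235e9c8f0b53f22c2321c1ae4d2b47d1740,
  nat_lit 0x344323b8b04a7531b58fbab23832e7c8ae5c86c4d2f48d1b40,
  nat_lit 0x33d52ca9f02cf287b72331f51c8b4e2ae4599b04d3349c8341]
noncomputable def T1 (k u : ℕ) : ℕ := Nat.land (Nat.shiftRight (nth (nat_lit 0) T1d k) (Nat.mul u (nat_lit 10))) (nat_lit 1023)
noncomputable def I1d : List ℕ := [nat_lit 0x7143121032004015326,
  nat_lit 0x21,
  nat_lit 0x35800607210100300214,
  nat_lit 0x3670430011010142225,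
  nat_lit 0x103004000001112,
  nat_lit 0x32040020210100351101]
noncomputable def I1 (k u : ℕ) : ℕ := Nat.land (Nat.shiftRight (nth (nat_lit 0) I1d k) (Nat.mul u (nat_lit 4))) (nat_lit 15)
noncomputable def D1d : ℕ := nat_lit 0xb13a0be6cd59172c548901e284880e18280
noncomputable def D1 (u : ℕ) : ℕ := Nat.land (Nat.shiftRight D1d (Nat.mul u (nat_lit 7))) (nat_lit 127)
noncomputable def RL1 : List (List Rule) := [[.rel (nat_lit 20) (nat_lit 0) [nat_lit 3, nat_lit 1, nat_lit 4], .rel (nat_lit 28) (nat_lit 0) [nat_lit 2, nat_lit 5, nat_lit 2, nat_lit 3, nat_lit 5, nat_lit 2, nat_lit 5], .defn, .rel (nat_lit 14) (nat_lit 2) [nat_lit 0, nat_lit 0], .rel (nat_lit 14) (nat_lit 1) [nat_lit 0, nat_lit 0], .rel (nat_lit 0) (nat_lit 0) [nat_lit 1], .sub (nat_lit 0) [] [], .rel (nat_lit 16) (nat_lit 2) [nat_lit 2, nat_lit 0, nat_lit 2, nat_lit 0, nat_lit 2]],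
  [.rel (nat_lit 2) (nat_lit 0) [nat_lit 0], .sub (nat_lit 2) [] [], .defn],
  [.rel (nat_lit 4) (nat_lit 0) [nat_lit 2], .defn, .rel (nat_lit 16) (nat_lit 3) [nat_lit 0, nat_lit 2, nat_lit 0, nat_lit 2, nat_lit 0], .rel (nat_lit 26) (nat_lit 2) [nat_lit 5, nat_lit 2, nat_lit 5, nat_lit 2, nat_lit 5], .sub (nat_lit 4) [] [], .rel (nat_lit 16) (nat_lit 5) [nat_lit 0, nat_lit 2, nat_lit 0, nat_lit 2, nat_lit 0], .rel (nat_lit 26) (nat_lit 4) [nat_lit 5, nat_lit 2, nat_lit 5, nat_lit 2, nat_lit 5], .rel (nat_lit 28) (nat_lit 3) [nat_lit 3, nat_lit 5, nat_lit 2, nat_lit 5, nat_lit 0, nat_lit 2, nat_lit 5], .rel (nat_lit 28) (nat_lit 6) [nat_lit 5, nat_lit 0, nat_lit 2, nat_lit 5, nat_lit 2, nat_lit 3, nat_lit 5]],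
  [.rel (nat_lit 6) (nat_lit 0) [nat_lit 4], .rel (nat_lit 18) (nat_lit 2) [nat_lit 3, nat_lit 3], .defn, .rel (nat_lit 20) (nat_lit 1) [nat_lit 1, nat_lit 4, nat_lit 0], .rel (nat_lit 28) (nat_lit 4) [nat_lit 5, nat_lit 2, nat_lit 5, nat_lit 0, nat_lit 2, nat_lit 5, nat_lit 2], .sub (nat_lit 6) [] [], .rel (nat_lit 18) (nat_lit 1) [nat_lit 3, nat_lit 3], .rel (nat_lit 22) (nat_lit 5) [nat_lit 2, nat_lit 4, nat_lit 2, nat_lit 3, nat_lit 2, nat_lit 4, nat_lit 2]],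
  [.rel (nat_lit 8) (nat_lit 0) [nat_lit 3], .defn, .sub (nat_lit 8) [] [], .rel (nat_lit 20) (nat_lit 3) [nat_lit 0, nat_lit 3, nat_lit 1], .rel (nat_lit 22) (nat_lit 7) [nat_lit 2, nat_lit 3, nat_lit 2, nat_lit 4, nat_lit 2, nat_lit 3, nat_lit 2]],
  [.rel (nat_lit 10) (nat_lit 0) [nat_lit 5], .defn, .rel (nat_lit 28) (nat_lit 2) [nat_lit 2, nat_lit 3, nat_lit 5, nat_lit 2, nat_lit 5, nat_lit 0, nat_lit 2], .rel (nat_lit 28) (nat_lit 5) [nat_lit 2, nat_lit 5, nat_lit 0, nat_lit 2, nat_lit 5, nat_lit 2, nat_lit 3], .rel (nat_lit 26) (nat_lit 3) [nat_lit 2, nat_lit 5, nat_lit 2, nat_lit 5, nat_lit 2], .rel (nat_lit 26) (nat_lit 5) [nat_lit 2, nat_lit 5, nat_lit 2, nat_lit 5, nat_lit 2]]]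
noncomputable def c1 : TCert := ⟨20, 6, 31, T1, I1, D1, [[nat_lit 0],
  [nat_lit 1],
  [nat_lit 2],
  [nat_lit 3],
  [nat_lit 4]], RL1⟩
noncomputable def Pt1d : ℕ := nat_lit 0x9236da61654f38d2ca246141103087
noncomputable def Pt1 (u : ℕ) : ℕ := Nat.land (Nat.shiftRight Pt1d (Nat.mul u (nat_lit 6))) (nat_lit 63)
noncomputable def Q1d : ℕ := nat_lit 0x1390000000008c00f039a00000062d404a0e0018a310480
noncomputable def Q1 (u : ℕ) : ℕ := Nat.land (Nat.shiftRight Q1d (Nat.mul u (nat_lit 5))) (nat_lit 31)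
noncomputable def l1 : Lev := ⟨20, 6, D1, Pt1, Q1⟩
noncomputable def T2d : List ℕ := [nat_lit 0x8a64ed52291d0af32789b86935c06b9188e53ec8ae9178e19168df3a396a8289118da96496095e8cc74b8557d49598c87478507cf8137929048ca80e78d9038c69499458c2841940,
  nat_lit 0xeb8e24ae3a302691c8a87db2ea8ef8a491835d56d8a091789e91696c3278e989991196596195f8137927cc74b95a80e78d7c874789571488990489070f88590394a946882801940,
  nat_lit 0x5ef62e6ad85e6eb7df6696287635266d96617a74e26a475a7aa8ac91591385b72072590f90d90c95d6d495c71290755095858e95795674b84988a8c89517c5806902901944943940,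
  nat_lit 0x26a46c91d42091c22565f75e9188e796f16b9178e35ed96e69a7196211a47d696996896696281190a8d59098d395b9068d09058ce9048cc9549529038c894f94d94b9479008c2941,
  nat_lit 0x9259205a14ae1242af91a9198a69181ea1dc8a29175dd3ec62972896d96b91165f6de96796379b89490a89290985688f90688d90588b90495595388790395094e94c948881900942]
noncomputable def T2 (k u : ℕ) : ℕ := Nat.land (Nat.shiftRight (nth (nat_lit 0) T2d k) (Nat.mul u (nat_lit 12))) (nat_lit 4095)
noncomputable def I2d : List ℕ := [nat_lit 0x10001006101200101134013332122321224201420133225,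
  nat_lit 0x220000200200020000102001110000100000000000011003,
  nat_lit 0x443031970400331101004010002125012522301820100226,
  nat_lit 0x303240213023143502111100202102020211021111021,
  nat_lit 0x202000002000000110001100000300000011001111001]
noncomputable def I2 (k u : ℕ) : ℕ := Nat.land (Nat.shiftRight (nth (nat_lit 0) I2d k) (Nat.mul u (nat_lit 4))) (nat_lit 15)
noncomputable def D2d : ℕ := nat_lit 0xbca39592908c85807c7b7978777674736f6e6b615856554d433e363531302522211d1c181715141312100f0c07040300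
noncomputable def D2 (u : ℕ) : ℕ := Nat.land (Nat.shiftRight D2d (Nat.mul u (nat_lit 8))) (nat_lit 255)
noncomputable def RL2 : List (List Rule) := [[.rel (nat_lit 0) (nat_lit 0) [nat_lit 1], .rel (nat_lit 14) (nat_lit 2) [nat_lit 0, nat_lit 0], .rel (nat_lit 20) (nat_lit 0) [nat_lit 3, nat_lit 1, nat_lit 4], .defn, .rel (nat_lit 14) (nat_lit 1) [nat_lit 0, nat_lit 0], .sub (nat_lit 0) [] [], .rel (nat_lit 16) (nat_lit 2) [nat_lit 2, nat_lit 0, nat_lit 2, nat_lit 0, nat_lit 2]],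
  [.rel (nat_lit 2) (nat_lit 0) [nat_lit 0], .defn, .rel (nat_lit 20) (nat_lit 2) [nat_lit 4, nat_lit 0, nat_lit 3], .sub (nat_lit 2) [] []],
  [.rel (nat_lit 4) (nat_lit 0) [nat_lit 2], .rel (nat_lit 16) (nat_lit 3) [nat_lit 0, nat_lit 2, nat_lit 0, nat_lit 2, nat_lit 0], .defn, .rel (nat_lit 22) (nat_lit 4) [nat_lit 3, nat_lit 2, nat_lit 4, nat_lit 2, nat_lit 3, nat_lit 2, nat_lit 4], .rel (nat_lit 22) (nat_lit 6) [nat_lit 4, nat_lit 2, nat_lit 3, nat_lit 2, nat_lit 4, nat_lit 2, nat_lit 3], .rel (nat_lit 24) (nat_lit 4) [nat_lit 0, nat_lit 4, nat_lit 2, nat_lit 3, nat_lit 1, nat_lit 2, nat_lit 4, nat_lit 0, nat_lit 2, nat_lit 1, nat_lit 3], .sub (nat_lit 4) [] [], .rel (nat_lit 16) (nat_lit 5) [nat_lit 0, nat_lit 2, nat_lit 0, nat_lit 2, nat_lit 0], .rel (nat_lit 22) (nat_lit 0) [nat_lit 3, nat_lit 2, nat_lit 4, nat_lit 2, nat_lit 3, nat_lit 2, nat_lit 4], .rel (nat_lit 24) (nat_lit 1) [nat_lit 1, nat_lit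 3, nat_lit 2, nat_lit 0, nat_lit 4, nat_lit 2, nat_lit 3, nat_lit 1, nat_lit 2, nat_lit 4, nat_lit 0]],
  [.rel (nat_lit 6) (nat_lit 0) [nat_lit 4], .defn, .rel (nat_lit 18) (nat_lit 2) [nat_lit 3, nat_lit 3], .rel (nat_lit 18) (nat_lit 1) [nat_lit 3, nat_lit 3], .rel (nat_lit 20) (nat_lit 1) [nat_lit 1, nat_lit 4, nat_lit 0], .rel (nat_lit 24) (nat_lit 8) [nat_lit 1, nat_lit 2, nat_lit 4, nat_lit 0, nat_lit 2, nat_lit 1, nat_lit 3, nat_lit 2, nat_lit 0, nat_lit 4, nat_lit 2]],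
  [.rel (nat_lit 8) (nat_lit 0) [nat_lit 3], .defn, .rel (nat_lit 20) (nat_lit 3) [nat_lit 0, nat_lit 3, nat_lit 1], .rel (nat_lit 22) (nat_lit 7) [nat_lit 2, nat_lit 3, nat_lit 2, nat_lit 4, nat_lit 2, nat_lit 3, nat_lit 2]]]
noncomputable def c2 : TCert := ⟨48, 5, 63, T2, I2, D2, [[nat_lit 0],
  [nat_lit 1],
  [nat_lit 2]], RL2⟩
noncomputable def Pt2d : ℕ := nat_lit 0x6a2081198dd9b044e65ab2830e925a7ce369c817b82eb95498f519527d013469f229d07f460c57aa52bc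
noncomputable def Pt2 (u : ℕ) : ℕ := Nat.land (Nat.shiftRight Pt2d (Nat.mul u (nat_lit 7))) (nat_lit 127)
noncomputable def Q2d : ℕ := nat_lit 0x122501882db02b94050a4cc10000014e1cf0c0000998a9cbc0a510286567c091508000d04002701a78085d0000005c0023020b2d00002200002e000000000000
noncomputable def Q2 (u : ℕ) : ℕ := Nat.land (Nat.shiftRight Q2d (Nat.mul u (nat_lit 6))) (nat_lit 63)
noncomputable def l2 : Lev := ⟨48, 5, D2, Pt2, Q2⟩
noncomputable def T3d : List ℕ := [nat_lit 0xab2ea49a71f568cd42161,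
  nat_lit 0x7555c546d4f5e9cec6862,
  nat_lit 0x6ce5507312e951a197263]
noncomputable def T3 (k u : ℕ) : ℕ := Nat.land (Nat.shiftRight (nth (nat_lit 0) T3d k) (Nat.mul u (nat_lit 7))) (nat_lit 127)
noncomputable def I3d : List ℕ := [nat_lit 0x222549,
  nat_lit 0x541,
  nat_lit 0x20b015]
noncomputable def I3 (k u : ℕ) : ℕ := Nat.land (Nat.shiftRight (nth (nat_lit 0) I3d k) (Nat.mul u (nat_lit 2))) (nat_lit 3)
noncomputable def D3d : ℕ := nat_lit 0x83dac5250510400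
noncomputable def D3 (u : ℕ) : ℕ := Nat.land (Nat.shiftRight D3d (Nat.mul u (nat_lit 5))) (nat_lit 31)
noncomputable def RL3 : List (List Rule) := [[.rel (nat_lit 0) (nat_lit 0) [nat_lit 1], .defn, .rel (nat_lit 14) (nat_lit 2) [nat_lit 0, nat_lit 0]],
  [.rel (nat_lit 2) (nat_lit 0) [nat_lit 0], .defn],
  [.rel (nat_lit 4) (nat_lit 0) [nat_lit 2], .defn, .rel (nat_lit 16) (nat_lit 3) [nat_lit 0, nat_lit 2, nat_lit 0, nat_lit 2, nat_lit 0], .rel (nat_lit 16) (nat_lit 5) [nat_lit 0, nat_lit 2, nat_lit 0, nat_lit 2, nat_lit 0]]]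
noncomputable def c3 : TCert := ⟨12, 3, 15, T3, I3, D3, [], RL3⟩
noncomputable def Pt3d : ℕ := nat_lit 0x771214a9ae9443586539e
noncomputable def Pt3 (u : ℕ) : ℕ := Nat.land (Nat.shiftRight Pt3d (Nat.mul u (nat_lit 7))) (nat_lit 127)
noncomputable def Q3d : ℕ := nat_lit 0x700800000a49000000b60000000000000300051000000000000020000000000000000000000000
noncomputable def Q3 (u : ℕ) : ℕ := Nat.land (Nat.shiftRight Q3d (Nat.mul u (nat_lit 4))) (nat_lit 15)
noncomputable def l3 : Lev := ⟨12, 3, D3, Pt3, Q3⟩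
noncomputable def B : List ℕ := [nat_lit 0, nat_lit 7, nat_lit 60, nat_lit 30]
noncomputable def L : List Lev := [l0, l1, l2, l3]
noncomputable def Rs : List Root := [⟨(nat_lit 1), [[nat_lit 6],
  [nat_lit 6]], [((nat_lit 8), [nat_lit 7]),
  ((nat_lit 6), [nat_lit 7])]⟩,
  ⟨(nat_lit 8), [[nat_lit 6, nat_lit 2, nat_lit 6],
  [nat_lit 6, nat_lit 2, nat_lit 6]], [((nat_lit 8), [nat_lit 7]),
  ((nat_lit 6), [nat_lit 2, nat_lit 0, nat_lit 4, nat_lit 2, nat_lit 0, nat_lit 4, nat_lit 5, nat_lit 0, nat_lit 4, nat_lit 5, nat_lit 7, nat_lit 3, nat_lit 2, nat_lit 0, nat_lit 7, nat_lit 4, nat_lit 2])]⟩]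
noncomputable def Fod : ℕ := nat_lit 0xbaebadb77b78b55ba89189099059029019008ff8fd8fc8f88f08ec8e98e88e78e58e48e08f99079088d09038cd906bc56c56c36c06bf6be6bd6bb6ba6b66b06aa6ad6986b468c68fa88a7e67a47446e46846546446385385044d84244c84183e44b23523423323061d61c61b23161761661500241141040f40d40c208001000
noncomputable def Fo (u : ℕ) : ℕ := Nat.land (Nat.shiftRight Fod (Nat.mul u (nat_lit 12))) (nat_lit 4095)
noncomputable def nx : List ℕ := [nat_lit 6, nat_lit 4, nat_lit 2, nat_lit 1]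
noncomputable def nL : List (List ℕ × ℕ) := [([nat_lit 2, nat_lit 0, nat_lit 5], (nat_lit 3)),
  ([nat_lit 5, nat_lit 6, nat_lit 2], (nat_lit 3)),
  ([], (nat_lit 4)),
  ([], (nat_lit 3)),
  ([nat_lit 5, nat_lit 3, nat_lit 2], (nat_lit 3)),
  ([nat_lit 4], (nat_lit 4)),
  ([nat_lit 2, nat_lit 0], (nat_lit 4))]

theorem tc0e_a : allZ2 (entryChk T0 (selR RL0 I0) D0 (nat_lit 127) (nat_lit 85) (nat_lit 7)) (nat_lit 7) (nat_lit 85) = true := by decide +kernel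
theorem tc0r : rulesChk Rl c0.Sl RL0 (nat_lit 7) = true := by decide +kernel
theorem ivc : ivChk Rl (nat_lit 7) = true := by decide +kernel
theorem lv0e_0 : allZ (l0.ent P) (nat_lit 0) (nat_lit 84) = true := by decide +kernel
theorem lv0b : Nat.blt (Pt0 (nat_lit 0)) (nat_lit 85) = true ∧ Q0 (Pt0 (nat_lit 0)) = 0 ∧ Pt0 (nat_lit 0) = 0 := by decide +kernel
theorem sb0 : allL (ltAll (nat_lit 6)) c0.Sl = true ∧ fixLetters P (nat_lit 6) (Pt0 (nat_lit 0)) = true := by decide +kernel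
theorem tc1e_a : allZ2 (entryChk T1 (selR RL1 I1) D1 (nat_lit 31) (nat_lit 20) (nat_lit 6)) (nat_lit 6) (nat_lit 20) = true := by decide +kernel
theorem tc1r : rulesChk Rl c1.Sl RL1 (nat_lit 6) = true := by decide +kernel
theorem lv1e_0 : allZ (l1.ent P) (nat_lit 0) (nat_lit 19) = true := by decide +kernel
theorem lv1b : Nat.blt (Pt1 (nat_lit 0)) (nat_lit 85) = true ∧ Q1 (Pt1 (nat_lit 0)) = 0 ∧ Pt1 (nat_lit 0) = 7 := by decide +kernel
theorem sb1 : allL (ltAll (nat_lit 5)) c1.Sl = true ∧ fixLetters P (nat_lit 5) (Pt1 (nat_lit 0)) = true := by decide +kernel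
theorem tc2e_a : allZ2 (entryChk T2 (selR RL2 I2) D2 (nat_lit 63) (nat_lit 48) (nat_lit 5)) (nat_lit 5) (nat_lit 48) = true := by decide +kernel
theorem tc2r : rulesChk Rl c2.Sl RL2 (nat_lit 5) = true := by decide +kernel
theorem lv2e_0 : allZ (l2.ent P) (nat_lit 0) (nat_lit 47) = true := by decide +kernel
theorem lv2b : Nat.blt (Pt2 (nat_lit 0)) (nat_lit 85) = true ∧ Q2 (Pt2 (nat_lit 0)) = 0 ∧ Pt2 (nat_lit 0) = 60 := by decide +kernel
theorem sb2 : allL (ltAll (nat_lit 3)) c2.Sl = true ∧ fixLetters P (nat_lit 3) (Pt2 (nat_lit 0)) = true := by decide +kernel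
theorem tc3e_a : allZ2 (entryChk T3 (selR RL3 I3) D3 (nat_lit 15) (nat_lit 12) (nat_lit 3)) (nat_lit 3) (nat_lit 12) = true := by decide +kernel
theorem tc3r : rulesChk Rl c3.Sl RL3 (nat_lit 3) = true := by decide +kernel
theorem lv3e_0 : allZ (l3.ent P) (nat_lit 0) (nat_lit 11) = true := by decide +kernel
theorem lv3b : Nat.blt (Pt3 (nat_lit 0)) (nat_lit 85) = true ∧ Q3 (Pt3 (nat_lit 0)) = 0 ∧ Pt3 (nat_lit 0) = 30 := by decide +kernel
theorem sb3 : allL (ltAll (nat_lit 0)) c3.Sl = true ∧ fixLetters P (nat_lit 0) (Pt3 (nat_lit 0)) = true := by decide +kernel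
theorem Blt : ltAll (nat_lit 85) B = 0 := by decide +kernel
theorem ivk : ivLt Rl (nat_lit 7) = true := by decide +kernel
theorem pe_a : allZ2 (permEnt P (ivOf Rl) (nat_lit 85)) (nat_lit 7) (nat_lit 85) = true := by decide +kernel
theorem rf0 : allL (fixRange P (nat_lit 7) (nat_lit 0) (nat_lit 85)) (Rl.drop (nat_lit 7)) = true := by decide +kernel
theorem Foe_0 : allZ (forEnt P Fo (nat_lit 6) (nat_lit 511) (nat_lit 85) ((nat_lit 0) :: Rs.map Root.r)) (nat_lit 0) (nat_lit 85) = true := by decide +kernel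
theorem rtc : allL (Root.chk P (nat_lit 7) B (nat_lit 6) (nat_lit 0)) Rs = true ∧ fixLetters P (nat_lit 6) (nat_lit 0) = true := by decide +kernel
theorem nc1 : allZ (fun k => force k (nclEnt P Rl (nat_lit 7) B nx nL)) 0 (nat_lit 7) = true := by decide +kernel
theorem nc2 : powL P (nat_lit 7) B nx (nat_lit 17) = 0 := by decide +kernel

theorem tc0e : ∀ k < 7, ∀ i < 85, (entryChk T0 (selR RL0 I0) D0 (nat_lit 127) (nat_lit 85) (nat_lit 7)) k i = 0 := allZ2_sound tc0e_a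
theorem tc0 : c0.OK Rl 7 := ⟨by decide, by decide, by decide, ivc, tc0r, tc0e⟩
theorem lv0e : ∀ i < 84, (l0.ent P) i = 0 := allZ_sound0 lv0e_0
theorem lv0 : l0.OK P 85 := ⟨by decide, by decide, lt_of_blt lv0b.1, lv0b.2.1, lv0e⟩
theorem tc1e : ∀ k < 6, ∀ i < 20, (entryChk T1 (selR RL1 I1) D1 (nat_lit 31) (nat_lit 20) (nat_lit 6)) k i = 0 := allZ2_sound tc1e_a
theorem tc1 : c1.OK Rl 7 := ⟨by decide, by decide, by decide, ivc, tc1r, tc1e⟩
theorem lv1e : ∀ i < 19, (l1.ent P) i = 0 := allZ_sound0 lv1e_0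
theorem lv1 : l1.OK P 85 := ⟨by decide, by decide, lt_of_blt lv1b.1, lv1b.2.1, lv1e⟩
theorem tc2e : ∀ k < 5, ∀ i < 48, (entryChk T2 (selR RL2 I2) D2 (nat_lit 63) (nat_lit 48) (nat_lit 5)) k i = 0 := allZ2_sound tc2e_a
theorem tc2 : c2.OK Rl 7 := ⟨by decide, by decide, by decide, ivc, tc2r, tc2e⟩
theorem lv2e : ∀ i < 47, (l2.ent P) i = 0 := allZ_sound0 lv2e_0
theorem lv2 : l2.OK P 85 := ⟨by decide, by decide, lt_of_blt lv2b.1, lv2b.2.1, lv2e⟩
theorem tc3e : ∀ k < 3, ∀ i < 12, (entryChk T3 (selR RL3 I3) D3 (nat_lit 15) (nat_lit 12) (nat_lit 3)) k i = 0 := allZ2_sound tc3e_a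
theorem tc3 : c3.OK Rl 7 := ⟨by decide, by decide, by decide, ivc, tc3r, tc3e⟩
theorem lv3e : ∀ i < 11, (l3.ent P) i = 0 := allZ_sound0 lv3e_0
theorem lv3 : l3.OK P 85 := ⟨by decide, by decide, lt_of_blt lv3b.1, lv3b.2.1, lv3e⟩
theorem bound3 : Bound Rl 3 12 := Bound.step' (Bound.zero Rl) tc3 sb3.1 (by decide +kernel)
theorem bound2 : Bound Rl 5 576 := Bound.step' (bound3) tc2 sb2.1 (by decide +kernel)
theorem bound1 : Bound Rl 6 11520 := Bound.step' (bound2) tc1 sb1.1 (by decide +kernel)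
theorem bound0 : Bound Rl 7 979200 := Bound.step' (bound1) tc0 sb0.1 (by decide +kernel)
/-- every tuple satisfying `Rl` generates a group of order at most `979200` -/
theorem bound : Bound Rl 7 979200 := bound0
theorem chain_of {G Ω : Type*} [Group G] [MulAction G Ω] {g : ℕ → G} {pt : ℕ → Ω}
    (h : Act g pt P 85 7) (hR : Rels g Rl) : IsChain g pt 85 L :=
  IsChain.cons (L := [l1, l2, l3]) (IsChain.cons (L := [l2, l3]) (IsChain.cons (L := [l3]) (IsChain.cons (L := []) (trivial) h hR tc3 lv3 rfl rfl rfl (by decide) sb3.1 sb3.2) h hR tc2 lv2 rfl rfl rfl (by decide) sb2.1 sb2.2) h hR tc1 lv1 rfl rfl rfl (by decide) sb1.1 sb1.2) h hR tc0 lv0 rfl rfl rfl (by decide) sb0.1 sb0.2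
theorem base_eq : chainBase L = B := by decide +kernel
theorem pe : ∀ k < 7, ∀ i < 85, (permEnt P (ivOf Rl) (nat_lit 85)) k i = 0 := allZ2_sound pe_a
/-- the letters -/
noncomputable def g : ℕ → Equiv.Perm (Fin 85) := permGen 85 P
theorem act : Act g (ptF 85) P 85 7 := act_permGen pe
theorem rels : Rels g Rl :=
  rels_perm pe ivc ivk (FixUpTo.first rf0)
theorem chain : IsChain g (ptF 85) 85 L := chain_of act rels
theorem card : Nat.card (gen g 7) = 979200 := chain.card' (ptF_inj 85) (by decide +kernel)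
theorem isBase : IsBase (gen g 7) (ptF 85) B := base_eq ▸ chain.isBase (ptF_inj 85)
theorem Foe : ∀ i < 85, (forEnt P Fo (nat_lit 6) (nat_lit 511) (nat_lit 85) ((nat_lit 0) :: Rs.map Root.r)) i = 0 := allZ_sound0 Foe_0
theorem maxCert_of' {G Ω : Type*} [Group G] [MulAction G Ω] {g : ℕ → G} {pt : ℕ → Ω}
    (h : Act g pt P 85 7) (hb : IsBase (gen g 7) pt B) : MaxCert g pt 85 7 6 0 :=
  maxCert_of h Blt hb (by decide) Foe rtc.2 rtc.1
theorem maxCert : MaxCert g (ptF 85) 85 l0.K (topK [l1, l2, l3]) (l0.Pt 0) :=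
  lv0b.2.2 ▸ maxCert_of' act isBase
theorem simple : IsSimpleGroup (gen g 7) :=
  simple_of_cert (l := l0) (L := [l1, l2, l3]) chain (ptF_inj 85) maxCert Blt isBase
    (evA_mem_gen g (powL_eq_one act Blt isBase nc2).1) (powL_eq_one act Blt isBase nc2).2
    (by decide +kernel) (by decide) fun _ hA hx => ncl_sound act Blt isBase rels ivc nc1 le_rfl hA hx

end H16.S44
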